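import Cfsg.Agent.OddLocal.CNMinSimple

/-! The structure of minimal simple CN-groups of odd order: Frobenius maximal subgroups. -/

set_option autoImplicit false

namespace Cfsg.Agent.OddLocal.CN

open Cfsg

variable {G : Type*} [Group G] [Finite G]

/-- In a Frobenius CN-group the kernel contains the centralizers of its nontrivial elements. -/
theorem mem_fittingHall_of_commute (hCN : IsCNGroup G) (hnn : ¬ Group.IsNilpotent G)
    (hne : fittingHall G ≠ ⊥) {y g : G} (hy : y ∈ fittingHall G) (hy1 : y ≠ 1) (hc : g * y = y * g) :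
    g ∈ fittingHall G := by
  obtain ⟨-, E, hE, -, -, hfpf, -⟩ := frobenius_structure hCN hnn hne
  obtain ⟨-, hFcop⟩ := fittingHall_props G
  have hle : Subgroup.centralizer ({y} : Set G) ≤ fittingHall G := by
    refine le_of_prime_pow_elements fun g hg t k ht hgk => ?_
    haveI := Fact.mk ht
    by_cases htF : t ∣ Nat.card (fittingHall G)
    · refine Core.le_of_coprime_index (H := Subgroup.zpowers g) ?_ (Subgroup.mem_zpowers g)
      rw [Nat.card_zpowers]
      exact Nat.Coprime.coprime_dvd_left (orderOf_dvd_of_pow_eq_one hgk)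
        ((hFcop.coprime_dvd_left htF).pow_left k)
    · obtain ⟨S⟩ : Nonempty (Sylow t E) := inferInstance
      have hndvd : ¬ t ∣ ((S : Subgroup E).map E.subtype).index := by
        rw [Subgroup.index_map_of_injective _ E.subtype_injective, Subgroup.range_subtype]
        rw [hE.index_eq_card]
        exact fun h => (ht.dvd_mul.mp h).elim S.not_dvd_index htF
      let S' : Sylow t G := IsPGroup.toSylow (S.isPGroup'.map E.subtype) hndvd
      have hg' : IsPGroup t (Subgroup.zpowers g) := by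
        obtain ⟨j, -, hj⟩ := (Nat.dvd_prime_pow ht).mp (orderOf_dvd_of_pow_eq_one hgk)
        exact IsPGroup.of_card (n := j) (by rw [Nat.card_zpowers, hj])
      obtain ⟨m, hm⟩ := PLocal.exists_conj_le_sylow hg' S'
      obtain ⟨e, -, he'⟩ : m * g * m⁻¹ ∈ (S : Subgroup E).map E.subtype :=
        hm ⟨g, Subgroup.mem_zpowers g, rfl⟩
      have hmgE : m * g * m⁻¹ ∈ E := by rw [← he']; exact e.2
      by_contra hgF
      have hne1 : m * g * m⁻¹ ≠ 1 := fun h => hgF (by rw [conj_eq_one_iff.mp h]; exact Subgroup.one_mem _)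
      have h1 := hfpf _ hmgE hne1 (m * y * m⁻¹)
        ((inferInstance : (fittingHall G).Normal).conj_mem y hy m) (by
          have h2 : g * y = y * g := Subgroup.mem_centralizer_singleton_iff.mp hg
          calc m * g * m⁻¹ * (m * y * m⁻¹) = m * (g * y) * m⁻¹ := by group
            _ = m * (y * g) * m⁻¹ := by rw [h2]
            _ = m * y * m⁻¹ * (m * g * m⁻¹) := by group)
      exact hy1 (conj_eq_one_iff.mp h1)
  exact hle (Subgroup.mem_centralizer_singleton_iff.mpr hc)

omit [Finite G] in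
theorem mem_fittingHallOf_iff {M : Subgroup G} {x : G} (hx : x ∈ M) :
    x ∈ fittingHallOf M ↔ (⟨x, hx⟩ : M) ∈ fittingHall M := by
  constructor
  · rintro ⟨y, hy, hyx⟩; rwa [show (⟨x, hx⟩ : M) = y from Subtype.ext hyx.symm]
  · exact fun h => ⟨_, h, rfl⟩

variable (hG : IsMinSimpleOddOrder G) (hCN : IsCNGroup G)

include hG hCN in
theorem fittingHall_ne_bot {M : Subgroup G} (hM : M ≠ ⊤) (hnn : ¬ Group.IsNilpotent M) :
    fittingHall M ≠ ⊥ := by
  haveI := hG.2.2.2 M hM
  exact (frobenius_or_threeStep (isCNGroup_subgroup hCN M) hnn).resolve_right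
    fun ⟨r, _, h⟩ => not_threeStep hG hCN M r h

include hG hCN in
theorem commute_mem_fittingHallOf {M : Subgroup G} (hM : M ≠ ⊤) (hnn : ¬ Group.IsNilpotent M) {y g : G}
    (hy : y ∈ fittingHallOf M) (hy1 : y ≠ 1) (hg : g ∈ M) (hc : g * y = y * g) : g ∈ fittingHallOf M := by
  have hyM : y ∈ M := fittingHallOf_le M hy
  rw [mem_fittingHallOf_iff hg]
  exact mem_fittingHall_of_commute (isCNGroup_subgroup hCN M) hnn (fittingHall_ne_bot hG hCN hM hnn)
    ((mem_fittingHallOf_iff hyM).mp hy) (fun h => hy1 (congrArg Subtype.val h)) (Subtype.ext hc)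

include hG hCN in
/-- Sylow subgroups of local subgroups are normal. -/
theorem sylow_normal {M : Subgroup G} (hM : M ≠ ⊤) {p : ℕ} [Fact p.Prime] {Q : Subgroup M}
    [Q.Normal] (hQ : IsPGroup p Q) (hQne : Q ≠ ⊥) (T : Sylow p M) : (T : Subgroup M).Normal := by
  haveI := hG.2.2.2 M hM
  exact (sylow_normal_or_threeStep (isCNGroup_subgroup hCN M) hQ hQne T).resolve_right
    (not_threeStep hG hCN M p)

omit [Finite G] in
theorem subgroupOf_ne_bot {Q M : Subgroup G} (hQM : Q ≤ M) (hQ : Q ≠ ⊥) : Q.subgroupOf M ≠ ⊥ := fun h =>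
  hQ (by
    have := congrArg (Subgroup.map M.subtype) h
    rwa [Subgroup.subgroupOf_map_subtype, inf_of_le_left hQM, Subgroup.map_bot] at this)

include hG hCN in
/-- The normalizer of a nontrivial `p`-subgroup has a unique Sylow `p`-subgroup. -/
theorem exists_unique_sylow {p : ℕ} [Fact p.Prime] {Q : Subgroup G} (hQ : IsPGroup p Q) (hQne : Q ≠ ⊥) :
    ∃ T : Subgroup G, IsPGroup p T ∧ Subgroup.normalizer (Q : Set G) ≤ Subgroup.normalizer (T : Set G) ∧
      ∀ U : Subgroup G, IsPGroup p U → U ≤ Subgroup.normalizer (Q : Set G) → U ≤ T := by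
  set M := Subgroup.normalizer (Q : Set G)
  have hQM : Q ≤ M := Subgroup.le_normalizer
  have hM : M ≠ ⊤ := normalizer_ne_top hG.2 hQne (ne_top_of_isPGroup hG.2 hQ)
  obtain ⟨T⟩ : Nonempty (Sylow p M) := inferInstance
  haveI : (Q.subgroupOf M).Normal := Subgroup.normal_in_normalizer
  haveI hTn := sylow_normal hG hCN hM (Q := Q.subgroupOf M) hQ.comap_subtype (subgroupOf_ne_bot hQM hQne) T
  haveI : (((T : Subgroup M).map M.subtype).subgroupOf M).Normal := by
    rw [Subgroup.subgroupOf, Subgroup.comap_map_eq_self_of_injective M.subtype_injective]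
    exact hTn
  refine ⟨(T : Subgroup M).map M.subtype, T.isPGroup'.map _,
    Subgroup.le_normalizer_of_normal_subgroupOf (Subgroup.map_subtype_le _), fun U hU hUM u hu => ?_⟩
  obtain ⟨S, hS⟩ := (hU.comap_subtype (K := M)).exists_le_sylow
  haveI : Subsingleton (Sylow p M) := @Unique.instSubsingleton _ (Sylow.unique_of_normal T hTn)
  rw [Subsingleton.elim S T] at hS
  exact ⟨⟨u, hUM hu⟩, hS hu, rfl⟩

include hG hCN in
/-- Sylow subgroups are TI. -/
theorem sylow_ti {p : ℕ} [Fact p.Prime] (P₁ P₂ : Sylow p G)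
    (h : (P₁ : Subgroup G) ⊓ (P₂ : Subgroup G) ≠ ⊥) : (P₁ : Subgroup G) = (P₂ : Subgroup G) := by
  induction hd : Nat.card G - Nat.card ((P₁ : Subgroup G) ⊓ (P₂ : Subgroup G) : Subgroup G)
    using Nat.strong_induction_on generalizing P₁ P₂ with
  | h d ih =>
  by_contra hne
  set D := (P₁ : Subgroup G) ⊓ (P₂ : Subgroup G)
  have hcard : Nat.card (P₁ : Subgroup G) = Nat.card (P₂ : Subgroup G) := by
    rw [P₁.card_eq_multiplicity, P₂.card_eq_multiplicity]
  have h1 : D < (P₁ : Subgroup G) := lt_of_le_of_ne inf_le_left fun e =>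
    hne (Subgroup.eq_of_le_of_card_ge (e.symm.le.trans inf_le_right) hcard.ge)
  have h2 : D < (P₂ : Subgroup G) := lt_of_le_of_ne inf_le_right fun e =>
    hne (Subgroup.eq_of_le_of_card_ge (e.symm.le.trans inf_le_left) hcard.le).symm
  obtain ⟨T, hTp, -, hTmax⟩ := exists_unique_sylow hG hCN (P₁.isPGroup'.to_le inf_le_left) h
  obtain ⟨P₃, hP₃⟩ := hTp.exists_le_sylow
  have key : ∀ P : Sylow p G, D < (P : Subgroup G) → (P : Subgroup G) = (P₃ : Subgroup G) := by
    intro P hDP
    have hlt := Transfer.lt_inf_normalizer P.2 hDP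
    have hle : (P : Subgroup G) ⊓ Subgroup.normalizer (D : Set G) ≤ (P : Subgroup G) ⊓ (P₃ : Subgroup G) :=
      le_inf inf_le_left ((hTmax _ P.2.to_inf_left inf_le_right).trans hP₃)
    have hlt' := hlt.trans_le hle
    refine ih _ ?_ P P₃ (fun e => h (le_bot_iff.mp (e ▸ hlt'.le))) rfl
    have hc : Nat.card D < Nat.card ((P : Subgroup G) ⊓ (P₃ : Subgroup G) : Subgroup G) := by
      by_contra hc
      exact hlt'.ne (Subgroup.eq_of_le_of_card_ge hlt'.le (not_lt.mp hc))
    have := Subgroup.card_le_card_group ((P : Subgroup G) ⊓ (P₃ : Subgroup G))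
    omega
  exact hne ((key P₁ h1).trans (key P₂ h2).symm)

omit [Finite G] in
theorem le_sylow_of_le_normalizer {p : ℕ} (P : Sylow p G) {U : Subgroup G} (hU : IsPGroup p U)
    (h : U ≤ Subgroup.normalizer ((P : Subgroup G) : Set G)) : U ≤ (P : Subgroup G) := by
  have h1 := P.is_maximal' (IsPGroup.to_sup_of_normal_right' hU P.isPGroup' h) le_sup_right
  exact le_sup_left.trans h1.le

omit [Finite G] in
theorem sylow_ne_bot [Finite G] {p : ℕ} [Fact p.Prime] (P : Sylow p G) (hd : p ∣ Nat.card G) :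
    (P : Subgroup G) ≠ ⊥ := P.ne_bot_of_dvd_card hd

include hG in
theorem normalizer_sylow_ne_top {p : ℕ} [Fact p.Prime] (P : Sylow p G) (hd : p ∣ Nat.card G) :
    Subgroup.normalizer ((P : Subgroup G) : Set G) ≠ ⊤ :=
  normalizer_ne_top hG.2 (sylow_ne_bot P hd) (ne_top_of_isPGroup hG.2 P.isPGroup')

include hG hCN in
theorem normalizer_sylow_not_nilpotent {p : ℕ} [hp : Fact p.Prime] (P : Sylow p G) (hd : p ∣ Nat.card G) :
    ¬ Group.IsNilpotent (Subgroup.normalizer ((P : Subgroup G) : Set G)) := by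
  intro hnil
  set M := Subgroup.normalizer ((P : Subgroup G) : Set G) with hM
  have hU : M ≤ (P : Subgroup G) ⊔ Subgroup.centralizer ((P : Subgroup G) : Set G) := by
    refine le_of_prime_pow_elements fun g hg t k ht hgk => ?_
    by_cases htp : t = p
    · subst htp
      obtain ⟨j, -, hj⟩ := (Nat.dvd_prime_pow ht).mp (orderOf_dvd_of_pow_eq_one hgk)
      exact Subgroup.mem_sup_left ((le_sylow_of_le_normalizer P
        (IsPGroup.of_card (n := j) (by rw [Nat.card_zpowers, hj])) (Subgroup.zpowers_le.mpr hg))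
          (Subgroup.mem_zpowers g))
    · refine Subgroup.mem_sup_right (Subgroup.mem_centralizer_iff.mpr fun x hx => ?_)
      obtain ⟨j, hj⟩ := P.isPGroup' ⟨x, hx⟩
      exact commute_of_coprime hnil (Subgroup.le_normalizer hx) hg
        (Nat.Coprime.of_dvd (orderOf_dvd_of_pow_eq_one (congrArg Subtype.val hj))
          (orderOf_dvd_of_pow_eq_one hgk) ((Nat.coprime_primes hp.out ht).mpr (Ne.symm htp) |>.pow j k))
  have hloc : ∀ Q : Subgroup G, Q ≠ ⊥ → Transfer.FullyNormalizedIn p (P : Subgroup G) Q →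
      Subgroup.normalizer (Q : Set G) ≤ Subgroup.normalizer
        (((P : Subgroup G) ⊓ Subgroup.normalizer (Q : Set G) : Subgroup G) : Set G) := by
      intro Q hQ hfn
      have hQp : IsPGroup p Q := P.isPGroup'.to_le hfn.1
      set L := Subgroup.normalizer (Q : Set G)
      let S : Sylow p L := IsPGroup.toSylow (P := ((P : Subgroup G) ⊓ L).subgroupOf L)
        P.2.to_inf_left.comap_subtype hfn.2
      haveI : (Q.subgroupOf L).Normal := Subgroup.normal_in_normalizer
      haveI : (((P : Subgroup G) ⊓ L).subgroupOf L).Normal :=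
        sylow_normal hG hCN (normalizer_ne_top hG.2 hQ (ne_top_of_isPGroup hG.2 hQp))
          (Q := Q.subgroupOf L) hQp.comap_subtype (subgroupOf_ne_bot Subgroup.le_normalizer hQ) S
      exact Subgroup.le_normalizer_of_normal_subgroupOf inf_le_right
  have hnpc : HasNormalPComplement p G := by
    refine Transfer.hasNormalPComplement_of_fusion P fun x hx g hgx => ?_
    obtain ⟨n, hn, hnx⟩ := controls_fusion P id (N := M)
      (fun T _ hT => ⟨le_rfl, hT, le_rfl⟩) le_rfl hloc hx hgx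
    obtain ⟨s, hs, c, hc, rfl⟩ := Coprime.exists_mul_of_mem_sup
      (Subgroup.centralizer_le_normalizer _) (hU hn)
    refine ⟨s, hs, ?_⟩
    have h1 : x * c = c * x := Subgroup.mem_centralizer_iff.mp hc x hx
    rw [← hnx]
    calc s * x * s⁻¹ = s * (x * c) * c⁻¹ * s⁻¹ := by group
      _ = s * (c * x) * c⁻¹ * s⁻¹ := by rw [h1]
      _ = s * c * x * (s * c)⁻¹ := by group
  have h1 := Transfer.hasNormalPComplement_iff_coprime_pResidual.mp hnpc
  rw [pResidual_eq_top hG.2 p, Subgroup.card_top] at h1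
  exact hp.out.ne_one (Nat.eq_one_of_dvd_coprimes h1 hd dvd_rfl)

/-- The kernel attached to a Sylow subgroup. -/
def kernel {p : ℕ} (P : Sylow p G) : Subgroup G :=
  fittingHallOf (Subgroup.normalizer ((P : Subgroup G) : Set G))

omit [Finite G] in
theorem kernel_le_normalizer {p : ℕ} (P : Sylow p G) :
    kernel P ≤ Subgroup.normalizer ((P : Subgroup G) : Set G) := fittingHallOf_le _

theorem le_kernel {p : ℕ} [Fact p.Prime] (P : Sylow p G) : (P : Subgroup G) ≤ kernel P := by
  have hn : ((P.subtype Subgroup.le_normalizer :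
      Sylow p (Subgroup.normalizer ((P : Subgroup G) : Set G))) :
      Subgroup (Subgroup.normalizer ((P : Subgroup G) : Set G))).Normal := by
    rw [Sylow.coe_subtype]
    exact Subgroup.normal_in_normalizer
  exact fun x hx => ⟨⟨x, Subgroup.le_normalizer hx⟩, sylow_le_fittingHall _ hn hx, rfl⟩

include hG hCN in
theorem mem_kernel_of_commute {p : ℕ} [Fact p.Prime] (P : Sylow p G) (hd : p ∣ Nat.card G) {y g : G}
    (hy : y ∈ (P : Subgroup G)) (hy1 : y ≠ 1) (hc : g * y = y * g) : g ∈ kernel P := by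
  have hgM : g ∈ Subgroup.normalizer ((P : Subgroup G) : Set G) := by
    have hyg : y ∈ (P : Subgroup G).map (MulAut.conj g).toMonoidHom :=
      ⟨y, hy, show g * y * g⁻¹ = y by rw [hc]; group⟩
    obtain ⟨P', hP'⟩ := (P.isPGroup'.map (MulAut.conj g).toMonoidHom).exists_le_sylow
    have heq := sylow_ti hG hCN P P' fun e => hy1 (by
      rw [← Subgroup.mem_bot, ← e]; exact ⟨hy, hP' hyg⟩)
    rw [Transfer.mem_normalizer_iff_map_conj]
    exact Subgroup.eq_of_le_of_card_ge (hP'.trans heq.ge) (Coprime.card_map_conj _ g).ge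
  exact commute_mem_fittingHallOf hG hCN (normalizer_sylow_ne_top hG P hd)
    (normalizer_sylow_not_nilpotent hG hCN P hd) (le_kernel P hy) hy1 hgM hc

include hG hCN in
theorem kernel_isMaxNilp {p : ℕ} [hp : Fact p.Prime] (P : Sylow p G) (hd : p ∣ Nat.card G) :
    IsMaxNilp (kernel P) := by
  refine ⟨isNilpotent_fittingHallOf _, fun L hL hle => le_antisymm ?_ hle⟩
  have hPL : (P : Subgroup G) ≤ L := (le_kernel P).trans hle
  have hpL : p ∣ Nat.card L := (P.dvd_card_of_dvd_card hd).trans (Subgroup.card_dvd_of_le hPL)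
  obtain ⟨z, hzL, hz1, hzc, hzp⟩ := exists_central_of_dvd hL hpL
  have hzn : Subgroup.zpowers z ≤ Subgroup.normalizer ((P : Subgroup G) : Set G) := by
    rw [Subgroup.zpowers_le]
    refine Subgroup.centralizer_le_normalizer _ (Subgroup.mem_centralizer_iff.mpr fun x hx => ?_)
    exact hzc x (hPL hx)
  have hzP : z ∈ (P : Subgroup G) := le_sylow_of_le_normalizer P (IsPGroup.of_card (n := 1) (by
    rw [Nat.card_zpowers, pow_one, orderOf_eq_prime hzp hz1])) hzn (Subgroup.mem_zpowers z)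
  exact fun l hl => mem_kernel_of_commute hG hCN P hd hzP hz1 (hzc l hl)

include hG hCN in
theorem eq_kernel_of_le {p : ℕ} [hp : Fact p.Prime] (P : Sylow p G) (hd : p ∣ Nat.card G) {H : Subgroup G}
    (hH : IsMaxNilp H) (hPH : (P : Subgroup G) ≤ H) : H = kernel P := by
  obtain ⟨z, hzH, hz1, hzc, hzp⟩ := exists_central_of_dvd hH.1
    ((P.dvd_card_of_dvd_card hd).trans (Subgroup.card_dvd_of_le hPH))
  have hzn : Subgroup.zpowers z ≤ Subgroup.normalizer ((P : Subgroup G) : Set G) := by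
    rw [Subgroup.zpowers_le]
    exact Subgroup.centralizer_le_normalizer _ (Subgroup.mem_centralizer_iff.mpr fun x hx => hzc x (hPH hx))
  have hzP : z ∈ (P : Subgroup G) := le_sylow_of_le_normalizer P (IsPGroup.of_card (n := 1) (by
    rw [Nat.card_zpowers, pow_one, orderOf_eq_prime hzp hz1])) hzn (Subgroup.mem_zpowers z)
  exact (hH.2 _ (kernel_isMaxNilp hG hCN P hd).1
    fun h hh => mem_kernel_of_commute hG hCN P hd hzP hz1 (hzc h hh)).symm

include hG hCN in
theorem exists_kernel_eq {H : Subgroup G} (hH : IsMaxNilp H) {p : ℕ} [hp : Fact p.Prime]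
    (hpH : p ∣ Nat.card H) : ∃ P : Sylow p G, H = kernel P ∧ (P : Subgroup G) ≤ H := by
  obtain ⟨z, hzH, hz1, hzc, hzp⟩ := exists_central_of_dvd hH.1 hpH
  obtain ⟨P, hP⟩ := (IsPGroup.of_card (n := 1) (by
    rw [Nat.card_zpowers, pow_one, orderOf_eq_prime hzp hz1]) :
      IsPGroup p (Subgroup.zpowers z)).exists_le_sylow
  have hd : p ∣ Nat.card G := hpH.trans (Subgroup.card_subgroup_dvd_card H)
  have h1 : H = kernel P := (hH.2 _ (kernel_isMaxNilp hG hCN P hd).1
    fun h hh => mem_kernel_of_commute hG hCN P hd (hP (Subgroup.mem_zpowers z)) hz1 (hzc h hh)).symm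
  exact ⟨P, h1, h1 ▸ le_kernel P⟩

theorem normalizer_kernel {p : ℕ} [hp : Fact p.Prime] (P : Sylow p G) :
    Subgroup.normalizer (kernel P : Set G) = Subgroup.normalizer ((P : Subgroup G) : Set G) := by
  refine le_antisymm (fun g hg => ?_) ?_
  · rw [Transfer.mem_normalizer_iff_map_conj]
    refine Subgroup.eq_of_le_of_card_ge ?_ (Coprime.card_map_conj _ g).ge
    refine le_sylow_of_le_normalizer P (P.isPGroup'.map _) ?_
    refine le_trans ?_ (kernel_le_normalizer P)
    rintro _ ⟨x, hx, rfl⟩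
    exact (Subgroup.mem_normalizer_iff.mp hg x).mp (le_kernel P hx)
  · haveI : ((kernel P).subgroupOf (Subgroup.normalizer ((P : Subgroup G) : Set G))).Normal := by
      rw [kernel, fittingHallOf, Subgroup.subgroupOf,
        Subgroup.comap_map_eq_self_of_injective (Subgroup.subtype_injective _)]
      infer_instance
    exact Subgroup.le_normalizer_of_normal_subgroupOf (kernel_le_normalizer P)

include hG in
theorem card_ne_one : Nat.card G ≠ 1 := by
  intro h
  haveI := hG.2.1
  exact Finite.one_lt_card.ne' h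

include hG in
theorem isMaxNilp_ne_bot {H : Subgroup G} (hH : IsMaxNilp H) : Nat.card H ≠ 1 := by
  intro h
  haveI := hG.2.1
  obtain ⟨x, hx⟩ := exists_ne (1 : G)
  have hnil : Group.IsNilpotent (Subgroup.zpowers x) := by
    letI := IsCyclic.commGroup (α := Subgroup.zpowers x)
    infer_instance
  have h1 := hH.2 (Subgroup.zpowers x) hnil (by rw [Subgroup.card_eq_one.mp h]; exact bot_le)
  rw [Subgroup.card_eq_one.mp h, Subgroup.zpowers_eq_bot] at h1
  exact hx h1

include hG hCN in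
/-- Maximal nilpotent subgroups are TI. -/
theorem isMaxNilp_ti {H : Subgroup G} (hH : IsMaxNilp H) (g : G)
    (hg : H.map (MulAut.conj g).toMonoidHom ≠ H) : H ⊓ H.map (MulAut.conj g).toMonoidHom = ⊥ := by
  by_contra hne
  obtain ⟨x, ⟨hx, hxg⟩, hx1⟩ := (Subgroup.bot_or_exists_ne_one _).resolve_left hne
  obtain ⟨p, hp, hpx⟩ := Nat.exists_prime_and_dvd (fun h => hx1 (orderOf_eq_one_iff.mp h))
  haveI := Fact.mk hp
  have hpH : p ∣ Nat.card H := hpx.trans (Subgroup.orderOf_dvd_natCard H hx)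
  have hd : p ∣ Nat.card G := hpH.trans (Subgroup.card_subgroup_dvd_card H)
  set y := x ^ (orderOf x / p) with hy
  have hyord : orderOf y = p := orderOf_pow_orderOf_div (orderOf_pos x).ne' hpx
  have hy1 : y ≠ 1 := fun h => hp.ne_one (by rw [← hyord, h, orderOf_one])
  obtain ⟨P, hHP, -⟩ := exists_kernel_eq hG hCN hH hpH
  have hmem : ∀ u ∈ H, orderOf u = p → u ∈ (P : Subgroup G) := fun u hu huo =>
    le_sylow_of_le_normalizer P (IsPGroup.of_card (n := 1) (by rw [Nat.card_zpowers, pow_one, huo]))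
      (Subgroup.zpowers_le.mpr (kernel_le_normalizer P (hHP ▸ hu))) (Subgroup.mem_zpowers u)
  obtain ⟨u, hu, huy⟩ := (Subgroup.pow_mem _ hxg (orderOf x / p) : y ∈ _)
  have huy' : g * u * g⁻¹ = y := huy
  have huord : orderOf u = p := by
    rw [← hyord, ← huy', ← MulAut.conj_apply, MulEquiv.orderOf_eq]
  obtain ⟨P', hP'⟩ := (P.isPGroup'.map (MulAut.conj g).toMonoidHom).exists_le_sylow
  have heq := sylow_ti hG hCN P P' fun e => hy1 (by
    rw [← Subgroup.mem_bot, ← e]
    exact ⟨hmem y (H.pow_mem hx _) hyord, hP' ⟨u, hmem u hu huord, huy⟩⟩)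
  apply hg
  rw [← Transfer.mem_normalizer_iff_map_conj, hHP, normalizer_kernel P,
    Transfer.mem_normalizer_iff_map_conj]
  exact Subgroup.eq_of_le_of_card_ge (hP'.trans heq.ge) (Coprime.card_map_conj _ g).ge

include hG hCN in
theorem isCoatom_normalizer_sylow {p : ℕ} [hp : Fact p.Prime] (P : Sylow p G) (hd : p ∣ Nat.card G) :
    IsCoatom (Subgroup.normalizer ((P : Subgroup G) : Set G)) := by
  set N := Subgroup.normalizer ((P : Subgroup G) : Set G) with hN
  refine ⟨normalizer_sylow_ne_top hG P hd, fun M hlt => ?_⟩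
  by_contra hM
  have hnn : ¬ Group.IsNilpotent M := fun h =>
    normalizer_sylow_not_nilpotent hG hCN P hd (Core.isNilpotent_of_le hlt.le h)
  set F := fittingHallOf M with hF
  have hFM : F ≤ M := fittingHallOf_le M
  have hPM : (P : Subgroup G) ≤ M := Subgroup.le_normalizer.trans hlt.le
  haveI hFn : (fittingHall M).Normal := inferInstance
  obtain ⟨hFnil, hFcop⟩ := fittingHall_props M
  obtain ⟨k, hk⟩ := IsPGroup.iff_card.mp (P.subtype hPM).isPGroup'
  by_cases hpF : p ∣ Nat.card (fittingHall M)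
  · have hTF : ((P.subtype hPM : Sylow p M) : Subgroup M) ≤ fittingHall M := by
      refine Core.le_of_coprime_index ?_
      rw [hk]; exact (hFcop.coprime_dvd_left hpF).pow_left k
    haveI := hFnil
    haveI : ((P : Subgroup G).subgroupOf M).Normal := by
      rw [← P.coe_subtype hPM, ← inf_of_le_left hTF, ← Subgroup.subgroupOf_map_subtype,
        ← Sylow.coe_subtype _ hTF, ← Core.pCore_eq_sylow]
      exact Core.normal_map_subtype_of_characteristic _
    exact absurd (Subgroup.le_normalizer_of_normal_subgroupOf hPM) (not_le_of_gt hlt)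
  · have hdis : ∀ x ∈ (P : Subgroup G), x ∈ F → x = 1 := fun x hx hxF => by
      obtain ⟨j, hj⟩ := P.isPGroup' ⟨x, hx⟩
      refine orderOf_eq_one_iff.mp (Nat.eq_one_of_dvd_coprimes
        (((hp.out.coprime_iff_not_dvd).mpr hpF).pow_left j)
        (orderOf_dvd_of_pow_eq_one (congrArg Subtype.val hj)) ?_)
      rw [← Core.card_map_subtype (fittingHall M)]
      exact Subgroup.orderOf_dvd_natCard _ hxF
    set f := (QuotientGroup.mk' (fittingHall M)).comp (Subgroup.inclusion hlt.le) with hf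
    have hinj : Function.Injective f := by
      rw [← MonoidHom.ker_eq_bot_iff, Subgroup.eq_bot_iff_forall]
      rintro ⟨y, hy⟩ hyk
      have hyF : y ∈ F := ⟨⟨y, hlt.le hy⟩, (QuotientGroup.eq_one_iff _).mp hyk, rfl⟩
      refine Subtype.ext ?_
      show y = 1
      by_contra hy1
      obtain ⟨x, hx, hx1⟩ := (Subgroup.bot_or_exists_ne_one (P : Subgroup G)).resolve_left (sylow_ne_bot P hd)
      refine hx1 (hdis x hx (commute_mem_fittingHallOf hG hCN hM hnn hyF hy1 (hPM hx) ?_))
      have h1 : x * y * x⁻¹ * y⁻¹ = 1 := by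
        refine hdis _ ?_ ?_
        · rw [show x * y * x⁻¹ * y⁻¹ = x * (y * x⁻¹ * y⁻¹) by group]
          exact (P : Subgroup G).mul_mem hx ((Subgroup.mem_normalizer_iff.mp hy _).mp ((P : Subgroup G).inv_mem hx))
        · refine F.mul_mem ?_ (F.inv_mem hyF)
          obtain ⟨y', hy', rfl⟩ := hyF
          exact ⟨_, hFn.conj_mem y' hy' ⟨x, hPM hx⟩, rfl⟩
      exact mul_inv_eq_iff_eq_mul.mp (mul_inv_eq_one.mp h1)
    obtain ⟨-, E, hE, -, -, -, hEnil⟩ := (haveI := hG.2.2.2 M hM
      frobenius_structure (isCNGroup_subgroup hCN M) hnn (fittingHall_ne_bot hG hCN hM hnn))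
    haveI : Group.IsNilpotent (M ⧸ fittingHall M) :=
      Core.isNilpotent_congr hE.symm.QuotientMulEquiv.symm hEnil
    exact normalizer_sylow_not_nilpotent hG hCN P hd
      (Core.isNilpotent_congr (MonoidHom.ofInjective hinj).symm inferInstance)

include hG hCN in
/-- Every maximal subgroup is the normalizer of a Sylow subgroup. -/
theorem exists_eq_normalizer_sylow {M : Subgroup G} (hM : IsCoatom M) :
    ∃ (p : ℕ) (_ : Fact p.Prime) (P : Sylow p G), p ∣ Nat.card G ∧
      M = Subgroup.normalizer ((P : Subgroup G) : Set G) := by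
  haveI := hG.2.1
  haveI := hG.2.2.2 M hM.1
  haveI : Nontrivial M := by
    rw [Subgroup.nontrivial_iff_ne_bot]
    intro h
    obtain ⟨x, hx⟩ := exists_ne (1 : G)
    have htop : Subgroup.zpowers x = ⊤ :=
      hM.2 _ (bot_lt_iff_ne_bot.mpr (fun e => hx (Subgroup.zpowers_eq_bot.mp e)) |>.trans_eq' h.symm)
    refine hG.2.2.1 ⟨⟨fun a b => ?_⟩⟩
    obtain ⟨i, rfl⟩ := Subgroup.mem_zpowers_iff.mp (htop.ge (Subgroup.mem_top a))
    obtain ⟨j, rfl⟩ := Subgroup.mem_zpowers_iff.mp (htop.ge (Subgroup.mem_top b))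
    exact (Commute.zpow_zpow_self x i j).eq
  obtain ⟨V, hV⟩ := Core.exists_isMinNormal (G := M)
  obtain ⟨-, p, hp, -, hVp⟩ := hV.elementaryAbelian_of_isSolvable
  haveI := Fact.mk hp
  haveI := hV.1
  set Q := V.map M.subtype
  have hQne : Q ≠ ⊥ := fun h => hV.2.1 ((Subgroup.map_eq_bot_iff_of_injective _ M.subtype_injective).mp h)
  haveI : (Q.subgroupOf M).Normal := by
    rw [Subgroup.subgroupOf, Subgroup.comap_map_eq_self_of_injective M.subtype_injective]; exact hV.1
  have hQp : IsPGroup p Q := hVp.map _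
  have hMQ : Subgroup.normalizer (Q : Set G) = M := by
    by_contra hne
    exact normalizer_ne_top hG.2 hQne (ne_top_of_isPGroup hG.2 hQp) (hM.2 _ (lt_of_le_of_ne
      (Subgroup.le_normalizer_of_normal_subgroupOf (Subgroup.map_subtype_le _)) (Ne.symm hne)))
  obtain ⟨T, hTp, hMT, hTmax⟩ := exists_unique_sylow hG hCN hQp hQne
  rw [hMQ] at hMT hTmax
  have hTne : T ≠ ⊥ := fun h => hQne (le_bot_iff.mp (h ▸ hTmax Q hQp (Subgroup.map_subtype_le _)))
  have hMT' : Subgroup.normalizer (T : Set G) = M := by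
    by_contra hne
    exact normalizer_ne_top hG.2 hTne (ne_top_of_isPGroup hG.2 hTp)
      (hM.2 _ (lt_of_le_of_ne hMT (Ne.symm hne)))
  obtain ⟨P, hTP⟩ := hTp.exists_le_sylow
  rcases hTP.lt_or_eq with hlt | heq
  · exact absurd (hTmax _ P.2.to_inf_left (inf_le_right.trans hMT'.le))
      (not_le_of_gt (Transfer.lt_inf_normalizer P.2 hlt))
  · refine ⟨p, ⟨hp⟩, P, ?_, by rw [← heq, hMT']⟩
    obtain ⟨k, hk⟩ := IsPGroup.iff_card.mp hTp
    exact (dvd_pow_self p fun e => hTne (Subgroup.card_eq_one.mp (by rw [hk, e, pow_zero]))).trans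
      (hk ▸ Subgroup.card_subgroup_dvd_card T)

include hG hCN in
theorem exists_complement {p : ℕ} [hp : Fact p.Prime] (P : Sylow p G) (hd : p ∣ Nat.card G) :
    ∃ E : Subgroup G, IsComplIn (kernel P) E (Subgroup.normalizer ((P : Subgroup G) : Set G)) ∧ E ≠ ⊥ ∧
      ∀ e ∈ E, e ≠ 1 → kernel P ⊓ Subgroup.centralizer ({e} : Set G) = ⊥ := by
  set M := Subgroup.normalizer ((P : Subgroup G) : Set G) with hM
  have htop : M ≠ ⊤ := normalizer_sylow_ne_top hG P hd
  have hnn : ¬ Group.IsNilpotent M := normalizer_sylow_not_nilpotent hG hCN P hd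
  haveI := hG.2.2.2 M htop
  obtain ⟨-, E, hE, hEne, -, hfpf, -⟩ :=
    frobenius_structure (isCNGroup_subgroup hCN M) hnn (fittingHall_ne_bot hG hCN htop hnn)
  refine ⟨E.map M.subtype, ⟨fittingHallOf_le M, Subgroup.map_subtype_le _, ?_, fun m hm => ?_⟩,
    fun h => hEne ((Subgroup.map_eq_bot_iff_of_injective _ M.subtype_injective).mp h), ?_⟩
  · show (fittingHall M).map M.subtype ⊓ E.map M.subtype = ⊥
    rw [← Subgroup.map_inf _ _ _ M.subtype_injective, hE.disjoint.eq_bot, Subgroup.map_bot]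
  · obtain ⟨⟨⟨a, ha⟩, ⟨b, hb⟩⟩, hab⟩ := hE.surjective ⟨m, hm⟩
    exact ⟨a, ⟨a, ha, rfl⟩, b, ⟨b, hb, rfl⟩, (congrArg Subtype.val hab).symm⟩
  · rintro _ ⟨e, he, rfl⟩ he1
    rw [Subgroup.eq_bot_iff_forall]
    rintro _ ⟨⟨k, hk, rfl⟩, hke⟩
    exact congrArg Subtype.val (hfpf e he (fun h => he1 (congrArg Subtype.val h)) k hk
      (Subtype.ext (Subgroup.mem_centralizer_singleton_iff.mp hke).symm))

include hG hCN in
theorem conj_or_coprime {H₁ H₂ : Subgroup G} (h₁ : IsMaxNilp H₁) (h₂ : IsMaxNilp H₂) :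
    (∃ g : G, H₂ = H₁.map (MulAut.conj g).toMonoidHom) ∨ (Nat.card H₁).Coprime (Nat.card H₂) := by
  by_cases hc : (Nat.card H₁).Coprime (Nat.card H₂)
  · exact Or.inr hc
  left
  obtain ⟨p, hp, hp₁, hp₂⟩ := Nat.Prime.not_coprime_iff_dvd.mp hc
  haveI := Fact.mk hp
  obtain ⟨P₁, -, hle₁⟩ := exists_kernel_eq hG hCN h₁ hp₁
  obtain ⟨P₂, hH₂, hle₂⟩ := exists_kernel_eq hG hCN h₂ hp₂
  obtain ⟨g, hg⟩ := MulAction.exists_smul_eq G P₁ P₂
  refine ⟨g, ?_⟩
  have hmax : IsMaxNilp (H₁.map (MulAut.conj g).toMonoidHom) := by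
    refine ⟨Core.isNilpotent_map h₁.1 _, fun L hL hle => ?_⟩
    have h3 := h₁.2 _ (Core.isNilpotent_map hL (MulAut.conj g⁻¹).toMonoidHom) (fun x hx => by
      rw [Coprime.map_conj_mem, inv_inv]
      exact hle ⟨x, hx, rfl⟩)
    rw [← h3, Transfer.map_conj_mul, mul_inv_cancel, map_one]
    exact (Subgroup.map_id L).symm
  rw [eq_kernel_of_le hG hCN P₂ (hp₂.trans (Subgroup.card_subgroup_dvd_card H₂)) hmax ?_, hH₂]
  rw [← hg]
  intro x hx
  rw [Sylow.coe_subgroup_smul, Subgroup.mem_pointwise_smul_iff_inv_smul_mem] at hx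
  refine ⟨(MulAut.conj g)⁻¹ • x, hle₁ hx, ?_⟩
  simp [mul_assoc]

end Cfsg.Agent.OddLocal.CN
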