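import Cfsg.Agent.OddLocal.CNSolvable
import Cfsg.Agent.OddLocal.ThreeStep
import Cfsg.Agent.OddLocal.FusionControl
import Cfsg.Agent.Transfer.Complement

/-! Minimal simple CN-groups of odd order have no three-step subgroups. -/

set_option autoImplicit false

namespace Cfsg.Agent.OddLocal.CN

open Cfsg
open scoped commutatorElement

variable {G : Type*} [Group G]

theorem isCNGroup_subgroup (hCN : IsCNGroup G) (M : Subgroup G) : IsCNGroup M := by
  intro g hg
  have h1 : (Subgroup.centralizer ({g} : Set M)).map M.subtype ≤ Subgroup.centralizer ({(g : G)} : Set G) := by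
    rintro _ ⟨x, hx, rfl⟩
    exact Subgroup.mem_centralizer_singleton_iff.mpr
      (congrArg Subtype.val (Subgroup.mem_centralizer_singleton_iff.mp hx))
  exact Core.isNilpotent_congr
    ((Subgroup.centralizer ({g} : Set M)).equivMapOfInjective M.subtype M.subtype_injective).symm
    (Core.isNilpotent_of_le h1 (hCN g fun h => hg (Subtype.ext h)))

/-- A solvable CN-group containing a three-step subgroup is a three-step group. -/
theorem exists_threeStep_of_injective [Finite G] [Group.IsSolvable G] (hCN : IsCNGroup G) {Y : Type*}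
    [Group Y] [Finite Y] (ι : Y →* G) (hι : Function.Injective ι) {p : ℕ} (hY : IsThreeStepGroup p Y) :
    ∃ q : ℕ, q.Prime ∧ IsThreeStepGroup q G := by
  by_cases hnil : Group.IsNilpotent G
  · exfalso
    refine ThreeStep.false_of_hom hY ι ?_ ?_
    · rw [(MonoidHom.ker_eq_bot_iff ι).mpr hι]; infer_instance
    · rw [(MonoidHom.ker_eq_bot_iff ι).mpr hι, Subgroup.card_bot]; exact Nat.coprime_one_left _
  rcases frobenius_or_threeStep hCN hnil with hne | h
  swap
  · exact h
  exfalso
  obtain ⟨-, E, hE, -, -, -, hEnil⟩ := frobenius_structure hCN hnil hne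
  obtain ⟨hFnil, hFcop⟩ := fittingHall_props G
  haveI : Group.IsNilpotent (G ⧸ fittingHall G) :=
    Core.isNilpotent_congr hE.symm.QuotientMulEquiv.symm hEnil
  set f := (QuotientGroup.mk' (fittingHall G)).comp ι with hf
  have hker : f.ker.map ι ≤ fittingHall G := by
    rintro _ ⟨y, hy, rfl⟩
    exact (QuotientGroup.eq_one_iff _).mp hy
  refine ThreeStep.false_of_hom hY f ?_ ?_
  · exact Core.isNilpotent_congr (f.ker.equivMapOfInjective ι hι).symm (Core.isNilpotent_of_le hker hFnil)
  · refine Nat.Coprime.of_dvd ?_ ?_ hFcop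
    · rw [← Subgroup.card_map_of_injective hι]
      exact Subgroup.card_dvd_of_le hker
    · rw [Subgroup.index_ker, Subgroup.index_eq_card]
      exact Subgroup.card_subgroup_dvd_card _

/-- In a solvable CN-group with a nontrivial normal `p`-subgroup, a Sylow `p`-subgroup is normal
unless the group is a three-step group with respect to `p`. -/
theorem sylow_normal_or_threeStep [Finite G] [Group.IsSolvable G] (hCN : IsCNGroup G) {p : ℕ}
    [hp : Fact p.Prime] {Q : Subgroup G} [hQn : Q.Normal] (hQ : IsPGroup p Q) (hQne : Q ≠ ⊥)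
    (T : Sylow p G) : (T : Subgroup G).Normal ∨ IsThreeStepGroup p G := by
  by_cases hnil : Group.IsNilpotent G
  · exact Or.inl (Core.isNilpotent_iff_forall_sylow_normal.mp hnil p hp T)
  rcases frobenius_or_threeStep hCN hnil with hne | ⟨r, hr, h⟩
  swap
  · by_cases hrp : r = p
    · exact Or.inr (hrp ▸ h)
    obtain ⟨k, hk⟩ := IsPGroup.iff_card.mp hQ
    exact absurd (ThreeStep.normal_coprime_eq_bot (W := Q) h
      (by rw [hk]; exact ((Nat.coprime_primes hp.out hr).mpr (Ne.symm hrp)).pow_left k)) hQne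
  obtain ⟨-, E, hE, -, -, hfpf, -⟩ := frobenius_structure hCN hnil hne
  obtain ⟨hFnil, hFcop⟩ := fittingHall_props G
  obtain ⟨k, hk⟩ := IsPGroup.iff_card.mp T.isPGroup'
  by_cases hpF : p ∣ Nat.card (fittingHall G)
  · left
    have hTF : (T : Subgroup G) ≤ fittingHall G := by
      refine Core.le_of_coprime_index ?_
      rw [hk]
      exact ((hFcop.coprime_dvd_left hpF)).pow_left k
    haveI := hFnil
    have heq : (T : Subgroup G) = (pCore p (fittingHall G)).map (fittingHall G).subtype := by
      rw [Core.pCore_eq_sylow (T.subtype hTF), Sylow.coe_subtype, Subgroup.subgroupOf_map_subtype,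
        inf_of_le_left hTF]
    rw [heq]
    exact Core.normal_map_subtype_of_characteristic _
  · exfalso
    obtain ⟨i, hi⟩ := IsPGroup.iff_card.mp hQ
    have hdis : ∀ y ∈ fittingHall G, y ∈ Q → y = 1 := fun y hy hyQ =>
      orderOf_eq_one_iff.mp (Nat.eq_one_of_dvd_coprimes
        ((((hp.out.coprime_iff_not_dvd).mpr hpF)).pow_left i)
        (hi ▸ Subgroup.orderOf_dvd_natCard Q hyQ) (Subgroup.orderOf_dvd_natCard _ hy))
    have hcomm : ∀ q ∈ Q, ∀ y ∈ fittingHall G, q * y = y * q := by
      intro q hq y hy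
      have h1 := hdis (q * y * q⁻¹ * y⁻¹)
        ((fittingHall G).mul_mem ((inferInstance : (fittingHall G).Normal).conj_mem y hy q)
          ((fittingHall G).inv_mem hy)) (by
          rw [show q * y * q⁻¹ * y⁻¹ = q * (y * q⁻¹ * y⁻¹) by group]
          exact Q.mul_mem hq (hQn.conj_mem _ (Q.inv_mem hq) y))
      exact mul_inv_eq_iff_eq_mul.mp (mul_inv_eq_one.mp h1)
    obtain ⟨y₀, hy₀, hy₀1⟩ := (Subgroup.bot_or_exists_ne_one (fittingHall G)).resolve_left hne
    refine hQne ((Subgroup.eq_bot_iff_forall _).mpr fun q hq => ?_)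
    obtain ⟨⟨⟨y, hy⟩, ⟨e, he⟩⟩, hqe⟩ := hE.surjective q
    replace hqe : y * e = q := hqe
    by_cases he1 : e = 1
    · exact hdis q (by rw [← hqe, he1, mul_one]; exact hy) hq
    exfalso
    have hey : Commute e y := by
      have h1 : Commute (y⁻¹ * q) y := (Commute.inv_left (Commute.refl y)).mul_left (hcomm q hq y hy)
      rwa [← hqe, inv_mul_cancel_left] at h1
    have hy1 : y = 1 := hfpf e he he1 y hy hey.eq
    have heq : e = q := by rw [← hqe, hy1, one_mul]
    exact hy₀1 (hfpf e he he1 y₀ hy₀ (by rw [heq]; exact hcomm q hq y₀ hy₀))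

/-- A solvable CN-group with a nontrivial normal `p`-subgroup, `p` odd, normalizes the Thompson
subgroup of a Sylow `p`-subgroup. -/
theorem thompson_normal [Finite G] [Group.IsSolvable G] (hCN : IsCNGroup G) {p : ℕ}
    [hp : Fact p.Prime] (hp2 : p ≠ 2) {Q : Subgroup G} [hQn : Q.Normal] (hQ : IsPGroup p Q) (hQne : Q ≠ ⊥)
    (T : Sylow p G) : (thompsonSubgroupOf p (T : Subgroup G)).Normal := by
  rw [← Subgroup.normalizer_eq_top_iff, eq_top_iff]
  rcases sylow_normal_or_threeStep hCN hQ hQne T with h | h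
  · haveI := h
    rw [← Subgroup.normalizer_eq_top_iff.mpr h]
    exact normalizer_le_normalizer_thompson p _
  · rw [thompsonSubgroupOf_eq_of (Core.pCore_le_sylow T) fun A hA hAT hmax =>
      ThreeStep.elemAb_le hp2 h T.isPGroup' (Core.pCore_le_sylow T) hA hAT hmax,
      ← Subgroup.normalizer_eq_top_iff.mpr (inferInstance : (pCore p G).Normal)]
    exact normalizer_le_normalizer_thompson p _

theorem thompsonSubgroupOf_map {X : Type*} [Group X] (f : X →* G) (hf : Function.Injective f) (p : ℕ)
    (U : Subgroup X) : (thompsonSubgroupOf p U).map f = thompsonSubgroupOf p (U.map f) := by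
  have h1 := PLocal.thompsonSubgroup_map (p := p) (U.equivMapOfInjective f hf)
  rw [thompsonSubgroupOf, thompsonSubgroupOf, ← h1, Subgroup.map_map, Subgroup.map_map]
  exact congrArg (fun φ => Subgroup.map φ (thompsonSubgroup p U)) (MonoidHom.ext fun _ => rfl)

/-! ### Minimal simple groups of odd order -/

section MinSimple

variable [Finite G]

theorem not_isSolvable (hG : IsMinimalSimple G) : ¬ Group.IsSolvable G := by
  intro h
  haveI := hG.1
  exact hG.2.1 ⟨⟨IsSimpleGroup.comm_iff_isSolvable.mpr h⟩⟩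

theorem ne_top_of_isPGroup (hG : IsMinimalSimple G) {p : ℕ} [Fact p.Prime] {Q : Subgroup G}
    (hQ : IsPGroup p Q) : Q ≠ ⊤ := by
  intro h
  subst h
  haveI := hQ.isNilpotent
  haveI : Group.IsNilpotent G := Core.isNilpotent_top_iff.mp inferInstance
  exact not_isSolvable hG inferInstance

theorem normalizer_ne_top (hG : IsMinimalSimple G) {Q : Subgroup G} (h1 : Q ≠ ⊥) (h2 : Q ≠ ⊤) :
    Subgroup.normalizer (Q : Set G) ≠ ⊤ := fun h =>
  haveI := hG.1
  ((Subgroup.normalizer_eq_top_iff.mp h).eq_bot_or_eq_top).elim h1 h2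

theorem isSolvable_normalizer (hG : IsMinimalSimple G) {p : ℕ} [Fact p.Prime] {Q : Subgroup G}
    (hQ : IsPGroup p Q) (h1 : Q ≠ ⊥) : Group.IsSolvable (Subgroup.normalizer (Q : Set G)) :=
  hG.2.2 _ (normalizer_ne_top hG h1 (ne_top_of_isPGroup hG hQ))

theorem pResidual_eq_top (hG : IsMinimalSimple G) (p : ℕ) [hp : Fact p.Prime] : pResidual p G = ⊤ := by
  haveI := hG.1
  refine (Subgroup.Normal.eq_bot_or_eq_top (inferInstance : (pResidual p G).Normal)).resolve_left fun h => ?_
  have hGp : IsPGroup p G := (IsPGroup.of_equiv (Transfer.isPGroup_quotient_pResidual (p := p) (G := G))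
    ((QuotientGroup.quotientMulEquivOfEq h).trans QuotientGroup.quotientBot))
  haveI := hGp.isNilpotent
  exact not_isSolvable hG inferInstance

theorem ne_two (hG : IsMinSimpleOddOrder G) {p : ℕ} (hd : p ∣ Nat.card G) : p ≠ 2 := by
  rintro rfl
  obtain ⟨c, hc⟩ := hG.1
  omega

/-- `N_G(Q)` normalizes the Thompson subgroup of `P ∩ N_G(Q)` for a fully normalized `Q`. -/
theorem normalizer_le_thompson (hG : IsMinSimpleOddOrder G) (hCN : IsCNGroup G) {p : ℕ}
    [hp : Fact p.Prime] (P : Sylow p G) {Q : Subgroup G} (hQne : Q ≠ ⊥)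
    (hfn : Transfer.FullyNormalizedIn p (P : Subgroup G) Q) :
    Subgroup.normalizer (Q : Set G) ≤ Subgroup.normalizer (thompsonSubgroupOf p
      ((P : Subgroup G) ⊓ Subgroup.normalizer (Q : Set G)) : Set G) := by
  have hQ : IsPGroup p Q := P.isPGroup'.to_le hfn.1
  set M := Subgroup.normalizer (Q : Set G)
  haveI := isSolvable_normalizer hG.2 hQ hQne
  have hQM : Q ≤ M := Subgroup.le_normalizer
  let S : Sylow p M := IsPGroup.toSylow (P := ((P : Subgroup G) ⊓ M).subgroupOf M)
    P.2.to_inf_left.comap_subtype hfn.2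
  have hp2 : p ≠ 2 := ne_two hG (by
    obtain ⟨k, hk⟩ := IsPGroup.iff_card.mp hQ
    have hk0 : k ≠ 0 := fun e => hQne (Subgroup.card_eq_one.mp (by rw [hk, e, pow_zero]))
    exact (dvd_pow_self p hk0).trans (hk ▸ Subgroup.card_subgroup_dvd_card Q))
  haveI : (Q.subgroupOf M).Normal := Subgroup.normal_in_normalizer
  have h1 := thompson_normal (isCNGroup_subgroup hCN M) hp2 (Q := Q.subgroupOf M)
    hQ.comap_subtype (fun h => hQne (by
      have := congrArg (Subgroup.map M.subtype) h
      rwa [Subgroup.subgroupOf_map_subtype, inf_of_le_left hQM, Subgroup.map_bot] at this)) S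
  have h2 : (thompsonSubgroupOf p (S : Subgroup M)).map M.subtype =
      thompsonSubgroupOf p ((P : Subgroup G) ⊓ M) := by
    rw [thompsonSubgroupOf_map _ M.subtype_injective]
    show thompsonSubgroupOf p ((((P : Subgroup G) ⊓ M).subgroupOf M).map M.subtype) = _
    rw [Subgroup.subgroupOf_map_subtype, inf_of_le_left inf_le_right]
  rw [← h2]
  haveI : (((thompsonSubgroupOf p (S : Subgroup M)).map M.subtype).subgroupOf M).Normal := by
    rw [Subgroup.subgroupOf, Subgroup.comap_map_eq_self_of_injective M.subtype_injective]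
    exact h1
  exact Subgroup.le_normalizer_of_normal_subgroupOf (Subgroup.map_subtype_le _)

/-- No subgroup of a minimal simple CN-group of odd order is a three-step group. -/
theorem not_threeStep (hG : IsMinSimpleOddOrder G) (hCN : IsCNGroup G) (H : Subgroup G) (p : ℕ) :
    ¬ IsThreeStepGroup p H := by
  classical
  intro hH
  haveI := hG.2.1
  by_cases hHtop : H = ⊤
  · subst hHtop
    obtain ⟨hne, A, -, -, -, -, -, hKne, -, -, -⟩ := hH
    haveI : ((pCore p (⊤ : Subgroup G)).map (⊤ : Subgroup G).subtype).Normal :=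
      Core.normal_map_subtype_of_characteristic _
    rcases Subgroup.Normal.eq_bot_or_eq_top
      (inferInstance : ((pCore p (⊤ : Subgroup G)).map (⊤ : Subgroup G).subtype).Normal) with h | h
    · exact hne ((Subgroup.map_eq_bot_iff_of_injective _ (Subgroup.subtype_injective _)).mp h)
    · refine hKne (top_le_iff.mp (le_trans ?_ le_sup_left))
      rintro ⟨x, hx⟩ -
      obtain ⟨y, hy, hyx⟩ := (show x ∈ _ from h.ge hx)
      rwa [show (⟨x, hx⟩ : (⊤ : Subgroup G)) = y from Subtype.ext hyx.symm]
  haveI := hG.2.2.2 H hHtop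
  obtain ⟨q, hq, hHq⟩ := exists_threeStep_of_injective (isCNGroup_subgroup hCN H) (MonoidHom.id H)
    Function.injective_id hH
  haveI := Fact.mk hq
  -- a three-step subgroup with the largest Sylow subgroup
  obtain ⟨X, ⟨hXtop, hX⟩, hmax⟩ := Set.Finite.exists_maximalFor
    (fun X : Subgroup G => (Nat.card X).factorization q)
    {X : Subgroup G | X ≠ ⊤ ∧ IsThreeStepGroup q X} (Set.toFinite _) ⟨H, hHtop, hHq⟩
  haveI := hG.2.2.2 X hXtop
  obtain ⟨T₀⟩ : Nonempty (Sylow q X) := inferInstance
  set T := (T₀ : Subgroup X).map X.subtype with hT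
  have hTp : IsPGroup q T := T₀.isPGroup'.map _
  have hH0 : pCore q X ≠ ⊥ := hX.1
  have hT0 : T ≠ ⊥ := fun h => hH0 (le_bot_iff.mp
    (((Subgroup.map_eq_bot_iff_of_injective _ X.subtype_injective).mp h) ▸ Core.pCore_le_sylow T₀))
  have hqG : q ∣ Nat.card G := by
    obtain ⟨k, hk⟩ := IsPGroup.iff_card.mp hTp
    exact (dvd_pow_self q fun e => hT0 (Subgroup.card_eq_one.mp (by rw [hk, e, pow_zero]))).trans
      (hk ▸ Subgroup.card_subgroup_dvd_card T)
  have hq2 : q ≠ 2 := ne_two hG hqG
  set W := thompsonSubgroupOf q T with hW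
  have hWp : IsPGroup q W := hTp.to_le (thompsonSubgroupOf_le_self q T)
  have hW0 : W ≠ ⊥ := thompsonSubgroupOf_ne_bot hTp hT0
  set M := Subgroup.normalizer (W : Set G) with hM
  have hMtop : M ≠ ⊤ := normalizer_ne_top hG.2 hW0 (ne_top_of_isPGroup hG.2 hWp)
  haveI := hG.2.2.2 M hMtop
  have hXM : X ≤ M := by
    have h1 := thompson_normal (isCNGroup_subgroup hCN X) hq2 (Core.isPGroup_pCore q X) hH0 T₀
    rw [hM, hW, hT, ← thompsonSubgroupOf_map _ X.subtype_injective]
    haveI : (((thompsonSubgroupOf q (T₀ : Subgroup X)).map X.subtype).subgroupOf X).Normal := by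
      rw [Subgroup.subgroupOf, Subgroup.comap_map_eq_self_of_injective X.subtype_injective]
      exact h1
    exact Subgroup.le_normalizer_of_normal_subgroupOf (Subgroup.map_subtype_le _)
  obtain ⟨r, hr, hMr⟩ := exists_threeStep_of_injective (isCNGroup_subgroup hCN M)
    (Subgroup.inclusion hXM) (Subgroup.inclusion_injective hXM) hX
  have hWM : W ≤ M := Subgroup.le_normalizer
  have hrq : r = q := by
    by_contra hrq
    haveI : (W.subgroupOf M).Normal := Subgroup.normal_in_normalizer
    obtain ⟨k, hk⟩ := IsPGroup.iff_card.mp hWp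
    have h1 := ThreeStep.normal_coprime_eq_bot (W := W.subgroupOf M) hMr (by
      rw [Core.card_subgroupOf hWM, hk]
      exact ((Nat.coprime_primes hq hr).mpr (Ne.symm hrq)).pow_left k)
    apply hW0
    have := congrArg (Subgroup.map M.subtype) h1
    rwa [Subgroup.subgroupOf_map_subtype, inf_of_le_left hWM, Subgroup.map_bot] at this
  subst r
  -- `T` is a Sylow subgroup of `G`
  obtain ⟨P, hTP⟩ := hTp.exists_le_sylow
  have hTeq : T = (P : Subgroup G) := by
    rcases hTP.lt_or_eq with hlt | h
    swap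
    · exact h
    exfalso
    have h1 := Transfer.lt_inf_normalizer P.2 hlt
    have h2 : (P : Subgroup G) ⊓ Subgroup.normalizer (T : Set G) ≤ M :=
      inf_le_right.trans (normalizer_le_normalizer_thompson q T)
    obtain ⟨i, hi⟩ := IsPGroup.iff_card.mp (P.2.to_inf_left (K := Subgroup.normalizer (T : Set G)))
    obtain ⟨j, hj⟩ := IsPGroup.iff_card.mp hTp
    have hji : j < i := by
      by_contra hc
      refine h1.ne (Subgroup.eq_of_le_of_card_ge h1.le ?_)
      rw [hi, hj]
      exact Nat.pow_le_pow_right hq.pos (not_lt.mp hc)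
    have h3 : i ≤ (Nat.card M).factorization q :=
      (hq.pow_dvd_iff_le_factorization Nat.card_pos.ne').mp (hi ▸ Subgroup.card_dvd_of_le h2)
    have h4 : j = (Nat.card X).factorization q := by
      have h5 := T₀.card_eq_multiplicity
      rw [← Subgroup.card_map_of_injective X.subtype_injective, ← hT, hj] at h5
      exact Nat.pow_right_injective hq.two_le h5
    have h6 : (Nat.card M).factorization q ≤ (Nat.card X).factorization q :=
      (le_total _ _).elim id (fun hle => hmax (show M ∈ {X : Subgroup G | _} from ⟨hMtop, hMr⟩) hle)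
    omega
  have hPM : (P : Subgroup G) ≤ M :=
    hTeq ▸ (Subgroup.le_normalizer.trans (normalizer_le_normalizer_thompson q T))
  -- `M` controls fusion, so `G` has a proper `q`-quotient
  obtain ⟨-, A, -, -, -, -, hKn, hKne, ⟨n, hn⟩, -, -⟩ := hMr
  set K := pCore q M ⊔ A
  haveI := hKn
  set L := K ⊔ commutator M with hL
  have hLne : L ≠ ⊤ := by
    intro h
    haveI : Nontrivial (M ⧸ K) := QuotientGroup.nontrivial_iff.mpr hKne
    have h1 := congrArg (Subgroup.map (QuotientGroup.mk' K)) h
    rw [hL, Subgroup.map_sup, QuotientGroup.map_mk'_self, bot_sup_eq, commutator_def,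
      Subgroup.map_commutator, Subgroup.map_top_of_surjective _ (QuotientGroup.mk'_surjective K),
      ← commutator_def] at h1
    exact (IsSolvable.commutator_lt_top_of_nontrivial (G := M ⧸ K)).ne h1
  have hfus : (P : Subgroup G) ⊓ pResidual q G ≤ L.map M.subtype := by
    refine Transfer.inf_pResidual_le_of_forall P fun x hx g _ hgx => ?_
    obtain ⟨m, hm, hmx⟩ := controls_fusion P (thompsonSubgroupOf q) (N := M)
      (fun U hU hU1 => ⟨thompsonSubgroupOf_le_self q U, thompsonSubgroupOf_ne_bot (P.2.to_le hU) hU1,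
        normalizer_le_normalizer_thompson q U⟩)
      (by rw [hM, hW, hTeq]) (fun Q hQ hfn => normalizer_le_thompson hG hCN P hQ hfn) hx.1 hgx
    rw [← hmx]
    refine ⟨⁅(⟨x, hPM hx.1⟩ : M)⁻¹, ⟨m, hm⟩⁆, Subgroup.mem_sup_right ?_, ?_⟩
    · exact Subgroup.commutator_mem_commutator (Subgroup.mem_top _) (Subgroup.mem_top _)
    · show x⁻¹ * m * x⁻¹⁻¹ * m⁻¹ = x⁻¹ * (m * x * m⁻¹)
      group
  rw [pResidual_eq_top hG.2 q, inf_top_eq] at hfus
  have h1 : ((P.subtype hPM : Sylow q M) : Subgroup M) ≤ L := by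
    intro y hy
    obtain ⟨z, hz, hzy⟩ := hfus (show (y : G) ∈ (P : Subgroup G) from hy)
    rwa [show y = z from Subtype.ext hzy.symm]
  have h2 : L.index ∣ q ^ n := hn ▸ Subgroup.index_dvd_of_le le_sup_left
  have h3 : L.index ∣ ((P.subtype hPM : Sylow q M) : Subgroup M).index := Subgroup.index_dvd_of_le h1
  obtain ⟨i, -, hi⟩ := (Nat.dvd_prime_pow hq).mp h2
  have hi0 : i ≠ 0 := fun e => hLne (Subgroup.index_eq_one.mp (by rw [hi, e, pow_zero]))
  exact (P.subtype hPM).not_dvd_index ((dvd_pow_self q hi0).trans (hi ▸ h3))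

end MinSimple

end Cfsg.Agent.OddLocal.CN
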