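import Cfsg.Agent.OddLocal.CN
import Mathlib.GroupTheory.QuotientGroup.Basic

/-! A quotient of a CN-group by a solvable normal subgroup is a CN-group. -/

set_option autoImplicit false

namespace Cfsg.Agent.OddLocal.CN

open Cfsg

variable {G : Type*} [Group G]

theorem centralizer_le_pow {Q : Type*} [Group Q] (x : Q) (m : ℕ) :
    Subgroup.centralizer ({x} : Set Q) ≤ Subgroup.centralizer ({x ^ m} : Set Q) := fun g hg =>
  Subgroup.mem_centralizer_singleton_iff.mpr
    ((show Commute g x from Subgroup.mem_centralizer_singleton_iff.mp hg).pow_right m).eq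

theorem exists_pow_lift {x : G} {r n : ℕ} (hr : r.Prime) (hn : r.Coprime n) (h : (x ^ r) ^ n = 1) :
    ∃ m : ℕ, (x ^ m) ^ r = 1 ∧ ∃ l : ℕ, m = l * r + 1 := by
  obtain ⟨m, h1, h2⟩ := Nat.chineseRemainder hn 1 0
  obtain ⟨j, rfl⟩ : n ∣ m := Nat.modEq_zero_iff_dvd.mp h2
  refine ⟨n * j, ?_, (n * j) / r, ?_⟩
  · rw [← pow_mul, show n * j * r = r * n * j by ring, pow_mul, pow_mul, h, one_pow]
  · have h3 : n * j % r = 1 := Eq.trans h1 (Nat.mod_eq_of_lt hr.one_lt)
    have h4 := Nat.div_add_mod (n * j) r
    rw [h3, mul_comm] at h4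
    exact h4.symm

theorem quotient_step [Finite G] (hCN : IsCNGroup G) {p : ℕ} [hp : Fact p.Prime] (V : Subgroup G)
    [hV : V.Normal] (hVc : IsMulCommutative V) (hVp : IsPGroup p V) (hVne : V ≠ ⊥) :
    IsCNGroup (G ⧸ V) := by
  have hVcard : ∃ a, Nat.card V = p ^ a := IsPGroup.iff_card.mp hVp
  have hVcomm : ∀ a ∈ V, ∀ b ∈ V, a * b = b * a := fun a ha b hb =>
    congrArg Subtype.val (hVc.1.1 ⟨a, ha⟩ ⟨b, hb⟩)
  have ofPrime : ∀ y : G ⧸ V, (orderOf y).Prime →
      Group.IsNilpotent (Subgroup.centralizer ({y} : Set (G ⧸ V))) := by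
    intro y hy
    obtain ⟨x, rfl⟩ := QuotientGroup.mk_surjective y
    set r := orderOf (x : G ⧸ V) with hrdef
    have hy1 : (x : G ⧸ V) ≠ 1 := fun h => hy.ne_one (by rw [hrdef, h, orderOf_one])
    have hxV : x ^ r ∈ V := (QuotientGroup.eq_one_iff _).mp (by
      rw [QuotientGroup.mk_pow, hrdef, pow_orderOf_eq_one])
    obtain ⟨a, ha⟩ := hVcard
    by_cases hrp : r = p
    · -- the case of an element of order `p`
      set C := Subgroup.centralizer ({(x : G ⧸ V)} : Set (G ⧸ V))
      set Y := C.comap (QuotientGroup.mk' V) with hYdef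
      suffices hY : Group.IsNilpotent Y by
        have h2 : Y.map (QuotientGroup.mk' V) = C :=
          Subgroup.map_comap_eq_self_of_surjective (QuotientGroup.mk'_surjective V) C
        rw [← h2]; exact Cfsg.Agent.Core.isNilpotent_map hY _
      have hVY : V ≤ Y := fun v hv => by
        rw [hYdef, Subgroup.mem_comap, show QuotientGroup.mk' V v = 1 from (QuotientGroup.eq_one_iff v).mpr hv]
        exact Subgroup.one_mem _
      set W := V ⊔ Subgroup.zpowers x with hWdef
      have hxn : Subgroup.zpowers x ≤ Subgroup.normalizer (V : Set G) := by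
        rw [Subgroup.normalizer_eq_top]; exact le_top
      have hxp : IsPGroup p (Subgroup.zpowers x) := by
        rintro ⟨z, hz⟩
        refine ⟨1 + a, Subtype.ext ?_⟩
        obtain ⟨i, rfl⟩ := Subgroup.mem_zpowers_iff.mp hz
        have h : x ^ p ^ (1 + a) = 1 := by
          have h1 : (⟨x ^ r, hxV⟩ : V) ^ Nat.card V = 1 := pow_card_eq_one'
          have h2 : (x ^ r) ^ Nat.card V = 1 := congrArg Subtype.val h1
          rw [pow_add, pow_one, pow_mul, ← ha]
          conv_lhs => arg 1; rw [← hrp]
          exact h2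
        show (x ^ i) ^ p ^ (1 + a) = 1
        rw [← zpow_natCast, ← zpow_mul, mul_comm, zpow_mul, zpow_natCast, h, one_zpow]
      have hWp : IsPGroup p W := hVp.to_sup_of_normal_left' hxp hxn
      -- a nontrivial element of `V` commuting with `x`
      haveI : Group.IsNilpotent W := hWp.isNilpotent
      haveI : (V.subgroupOf W).Normal := hV.subgroupOf W
      have hVW : V.subgroupOf W ≠ ⊥ := fun h => hVne (by
        have := congrArg (Subgroup.map W.subtype) h
        rwa [Subgroup.subgroupOf_map_subtype, inf_of_le_left le_sup_left, Subgroup.map_bot] at this)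
      obtain ⟨⟨u, huW⟩, huV, hu1, huc⟩ := exists_ne_one_mem_center_of_normal (V.subgroupOf W) hVW
      rw [Subgroup.mem_subgroupOf] at huV
      have hu1' : u ≠ 1 := fun h => hu1 (Subtype.ext h)
      have hcW : ∀ w ∈ W, w * u = u * w := fun w hw =>
        congrArg Subtype.val (Subgroup.mem_center_iff.mp huc ⟨w, hw⟩)
      -- every element of order prime to `p` in `Y` centralizes `u`
      have hfix : ∀ g ∈ Y, (orderOf g).Coprime p → g * u = u * g := by
        intro g hg hgp
        set A := Subgroup.zpowers g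
        haveI : IsMulCommutative A := inferInstance
        haveI : Group.IsSolvable A := inferInstance
        have hAV : A ≤ Subgroup.normalizer (V : Set G) := by
          rw [Subgroup.normalizer_eq_top]; exact le_top
        have hgc : ∀ k ∈ A, x * k * x⁻¹ * k⁻¹ ∈ V := by
          intro k hk
          have hkY : k ∈ Y := (Subgroup.zpowers_le.mpr hg) hk
          rw [hYdef, Subgroup.mem_comap, Subgroup.mem_centralizer_singleton_iff] at hkY
          rw [← QuotientGroup.eq_one_iff]
          simp only [QuotientGroup.mk_mul, QuotientGroup.mk_inv]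
          rw [show (x : G ⧸ V) * k = k * x from hkY.symm]; group
        have hAW : A ≤ Subgroup.normalizer (W : Set G) := by
          intro k hk
          refine Cfsg.Agent.Coprime.mem_normalizer_of_conj_mem (fun w hw => ?_)
          obtain ⟨v, hv, z, hz, rfl⟩ := Cfsg.Agent.Coprime.exists_mul_of_mem_sup hxn hw
          obtain ⟨i, rfl⟩ := Subgroup.mem_zpowers_iff.mp hz
          have h1 : k * x * k⁻¹ ∈ W := by
            have := hgc k⁻¹ (A.inv_mem hk)
            have h2 := hV.conj_mem _ this k
            have h3 : (k * (x * k⁻¹ * x⁻¹ * k⁻¹⁻¹) * k⁻¹) * x ∈ W :=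
              W.mul_mem (Subgroup.mem_sup_left h2) (Subgroup.mem_sup_right (Subgroup.mem_zpowers x))
            simpa [mul_assoc] using h3
          have h4 : k * (v * x ^ i) * k⁻¹ = (k * v * k⁻¹) * (k * x * k⁻¹) ^ i := by
            rw [conj_zpow]; group
          rw [h4]
          exact W.mul_mem (Subgroup.mem_sup_left (hV.conj_mem v hv k)) (W.zpow_mem h1 i)
        have hcop : (Nat.card A).Coprime (Nat.card W) := by
          obtain ⟨j, hj⟩ := IsPGroup.iff_card.mp hWp
          rw [hj, Nat.card_zpowers]; exact hgp.pow_right j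
        obtain ⟨m, hm, c, ⟨hcW', hcA⟩, hxmc⟩ := Cfsg.Agent.Coprime.exists_mul_centralizer hAW hcop
          (le_sup_left : V ≤ W) hAV (Subgroup.mem_sup_right (Subgroup.mem_zpowers x)) hgc
        have hc1 : c ≠ 1 := by
          rintro rfl
          exact hy1 ((QuotientGroup.eq_one_iff x).mpr (by rw [hxmc, mul_one]; exact hm))
        refine commute_of_coprime (hCN c hc1) ?_ ?_ ?_
        · exact Subgroup.mem_centralizer_singleton_iff.mpr
            (Subgroup.mem_centralizer_iff.mp hcA g (Subgroup.mem_zpowers g))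
        · exact Subgroup.mem_centralizer_singleton_iff.mpr (hcW c hcW').symm
        · obtain ⟨j, hj⟩ := hVp ⟨u, huV⟩
          exact (hgp.pow_right j).coprime_dvd_right (orderOf_dvd_of_pow_eq_one (congrArg Subtype.val hj))
      -- hence all Sylow subgroups of `Y` centralize one element of `V`
      obtain ⟨P⟩ : Nonempty (Sylow p Y) := inferInstance
      haveI : Group.IsNilpotent (P : Subgroup Y) := P.isPGroup'.isNilpotent
      have hVP : V.subgroupOf Y ≤ (P : Subgroup Y) := by
        haveI : (V.subgroupOf Y).Normal := hV.subgroupOf Y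
        exact (hVp.comap_subtype).le_sylow_of_normal P
      haveI : ((V.subgroupOf Y).subgroupOf (P : Subgroup Y)).Normal := (hV.subgroupOf Y).subgroupOf _
      have hne : (V.subgroupOf Y).subgroupOf (P : Subgroup Y) ≠ ⊥ := fun h => hVne (by
        have := congrArg (fun K => (K.map (P : Subgroup Y).subtype).map Y.subtype) h
        simpa [Subgroup.subgroupOf_map_subtype, inf_of_le_left hVP, inf_of_le_left hVY] using this)
      obtain ⟨⟨⟨v, hvY⟩, hvP⟩, hvV, hv1, hvc⟩ := exists_ne_one_mem_center_of_normal _ hne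
      simp only [Subgroup.mem_subgroupOf] at hvV
      have hv1' : v ≠ 1 := fun h => hv1 (Subtype.ext (Subtype.ext h))
      refine Cfsg.Agent.Core.isNilpotent_of_le (?_ : Y ≤ Subgroup.centralizer ({v} : Set G)) (hCN v hv1')
      refine Cfsg.Agent.Core.le_of_forall_exists_sylow_le fun t ht => ?_
      haveI := Fact.mk ht
      by_cases htp : t = p
      · subst htp
        refine ⟨P, ?_⟩
        rintro _ ⟨g, hg, rfl⟩
        rw [Subgroup.mem_centralizer_singleton_iff]
        exact congrArg (fun w : (P : Subgroup Y) => ((w : Y) : G))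
          (Subgroup.mem_center_iff.mp hvc ⟨g, hg⟩)
      · obtain ⟨T⟩ : Nonempty (Sylow t Y) := inferInstance
        refine ⟨T, ?_⟩
        rintro _ ⟨g, hg, rfl⟩
        rw [Subgroup.mem_centralizer_singleton_iff]
        obtain ⟨j, hj⟩ := T.isPGroup' ⟨g, hg⟩
        have hj' : (g : G) ^ t ^ j = 1 := by simpa [Subtype.ext_iff] using hj
        have hgp : (orderOf (g : G)).Coprime p :=
          Nat.Coprime.coprime_dvd_left (orderOf_dvd_of_pow_eq_one hj')
            (((Nat.coprime_primes ht hp.out).mpr htp).pow_left j)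
        have hgu := hfix g g.2 hgp
        refine commute_of_coprime (hCN u hu1') ?_ ?_ ?_
        · exact Subgroup.mem_centralizer_singleton_iff.mpr hgu
        · exact Subgroup.mem_centralizer_singleton_iff.mpr (hVcomm v hvV u huV)
        · obtain ⟨i, hi⟩ := hVp ⟨v, hvV⟩
          exact (hgp.pow_right i).coprime_dvd_right (orderOf_dvd_of_pow_eq_one (congrArg Subtype.val hi))
    · -- the case of an element of order prime to `p`
      have hcop : r.Coprime (p ^ a) := ((Nat.coprime_primes hy hp.out).mpr hrp).pow_right a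
      have hxa : (x ^ r) ^ p ^ a = 1 := by
        have h1 : (⟨x ^ r, hxV⟩ : V) ^ Nat.card V = 1 := pow_card_eq_one'
        rw [← ha]; exact congrArg Subtype.val h1
      obtain ⟨m, hm, l, hl⟩ := exists_pow_lift hy hcop hxa
      have hteq : ((x ^ m : G) : G ⧸ V) = (x : G ⧸ V) := by
        rw [QuotientGroup.mk_pow, hl, mul_comm, pow_succ, pow_mul, pow_orderOf_eq_one, one_pow, one_mul]
      set t := x ^ m with ht
      have ht1 : t ≠ 1 := fun h => hy1 (by rw [← hteq, h]; rfl)
      have htord : Nat.card (Subgroup.zpowers t) = r := by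
        rw [Nat.card_zpowers]
        haveI := Fact.mk hy
        exact orderOf_eq_prime hm ht1
      have htn : Subgroup.zpowers t ≤ Subgroup.normalizer (V : Set G) := by
        rw [Subgroup.normalizer_eq_top]; exact le_top
      refine Cfsg.Agent.Core.isNilpotent_of_le
        (?_ : _ ≤ (Subgroup.centralizer ({t} : Set G)).map (QuotientGroup.mk' V))
        (Cfsg.Agent.Core.isNilpotent_map (hCN t ht1) _)
      intro gy hgy
      obtain ⟨g, rfl⟩ := QuotientGroup.mk_surjective gy
      rw [Subgroup.mem_centralizer_singleton_iff] at hgy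
      have hK : (Subgroup.zpowers t).map (MulAut.conj g).toMonoidHom ≤ V ⊔ Subgroup.zpowers t := by
        rw [MonoidHom.map_zpowers, Subgroup.zpowers_le]
        have h1 : g * t * g⁻¹ * t⁻¹ ∈ V := by
          rw [← QuotientGroup.eq_one_iff]
          simp only [QuotientGroup.mk_mul, QuotientGroup.mk_inv, hteq, hgy]; group
        have := Subgroup.mul_mem_sup h1 (Subgroup.mem_zpowers t)
        simpa [mul_assoc] using this
      obtain ⟨w, hw, hwe⟩ := Cfsg.Agent.Coprime.exists_conj_complement V _ (Subgroup.zpowers t)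
        ((Subgroup.zpowers t).map (MulAut.conj g).toMonoidHom) rfl inferInstance htn hK
        (Cfsg.Agent.Coprime.card_map_conj _ g) (by rw [htord, ha]; exact hcop)
      set c := w⁻¹ * g with hc
      have hct : c * t * c⁻¹ ∈ Subgroup.zpowers t := by
        have h1 : g * t * g⁻¹ ∈ (Subgroup.zpowers t).map (MulAut.conj g).toMonoidHom :=
          ⟨t, Subgroup.mem_zpowers t, rfl⟩
        rw [hwe, Cfsg.Agent.Coprime.map_conj_mem] at h1
        simpa [hc, mul_assoc] using h1
      have hwV : ((w : G) : G ⧸ V) = 1 := (QuotientGroup.eq_one_iff w).mpr hw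
      have hcb : ((c : G) : G ⧸ V) = (g : G ⧸ V) := by rw [hc, QuotientGroup.mk_mul, QuotientGroup.mk_inv, hwV]; simp
      refine ⟨c, ?_, hcb⟩
      rw [SetLike.mem_coe, Subgroup.mem_centralizer_singleton_iff]
      have hd : c * t * c⁻¹ * t⁻¹ = 1 := by
        have h1 : c * t * c⁻¹ * t⁻¹ ∈ Subgroup.zpowers t :=
          Subgroup.mul_mem _ hct (Subgroup.inv_mem _ (Subgroup.mem_zpowers t))
        have h2 : c * t * c⁻¹ * t⁻¹ ∈ V := by
          rw [← QuotientGroup.eq_one_iff]
          simp only [QuotientGroup.mk_mul, QuotientGroup.mk_inv, hteq, hcb, hgy]; group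
        exact orderOf_eq_one_iff.mp (Nat.eq_one_of_dvd_coprimes (htord ▸ ha ▸ hcop)
          (Subgroup.orderOf_dvd_natCard _ h1) (Subgroup.orderOf_dvd_natCard V h2))
      exact mul_inv_eq_iff_eq_mul.mp (mul_inv_eq_one.mp hd)
  intro y hy
  obtain ⟨r, hr, hrd⟩ := Nat.exists_prime_and_dvd (fun h => hy (orderOf_eq_one_iff.mp h))
  refine Cfsg.Agent.Core.isNilpotent_of_le (centralizer_le_pow y (orderOf y / r)) (ofPrime _ ?_)
  rw [orderOf_pow_of_dvd (Nat.div_pos (Nat.le_of_dvd (orderOf_pos y) hrd) hr.pos).ne'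
    (Nat.div_dvd_of_dvd hrd), Nat.div_div_self hrd (orderOf_pos y).ne']
  exact hr

theorem isCNGroup_congr {G' : Type*} [Group G'] (e : G ≃* G') (h : IsCNGroup G) : IsCNGroup G' := by
  intro y hy
  have h1 := h (e.symm y) (by simpa using hy)
  refine Cfsg.Agent.Core.isNilpotent_of_le ?_ (Cfsg.Agent.Core.isNilpotent_map h1 e.toMonoidHom)
  intro g hg
  refine ⟨e.symm g, ?_, by simp⟩
  rw [SetLike.mem_coe, Subgroup.mem_centralizer_singleton_iff, ← map_mul, ← map_mul,
    Subgroup.mem_centralizer_singleton_iff.mp hg]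

universe v

theorem quotient_of_solvable (n : ℕ) : ∀ {G : Type v} [Group G] [Finite G], IsCNGroup G →
    ∀ (H : Subgroup G) [H.Normal], Group.IsSolvable H → Nat.card H ≤ n → IsCNGroup (G ⧸ H) := by
  induction n with
  | zero => intro G _ _ _ H _ _ h; exact absurd h (by simp [Nat.card_pos.ne'])
  | succ n ih =>
    intro G _ _ hCN H hHn hs hn
    by_cases hH : H = ⊥
    · subst hH; exact isCNGroup_congr QuotientGroup.quotientBot.symm hCN
    obtain ⟨V, hV, hVH⟩ := Cfsg.Agent.Core.exists_isMinNormal_le hHn hH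
    have hVs : Group.IsSolvable V := Group.isSolvable_of_isSolvable_injective (Subgroup.inclusion_injective hVH)
    obtain ⟨hVc, p, hp, -, hVp⟩ := hV.elementaryAbelian hVs
    haveI : V.Normal := hV.1
    haveI := Fact.mk hp
    have hq := quotient_step hCN V hVc hVp hV.2.1
    haveI : Group.IsSolvable (H.map (QuotientGroup.mk' V)) :=
      Group.isSolvable_of_surjective ((QuotientGroup.mk' V).subgroupMap_surjective H)
    haveI : (H.map (QuotientGroup.mk' V)).Normal := hHn.map _ (QuotientGroup.mk'_surjective V)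
    refine isCNGroup_congr (QuotientGroup.quotientQuotientEquivQuotient V H hVH)
      (ih hq (H.map (QuotientGroup.mk' V)) inferInstance ?_)
    have h1 : Nat.card (H.map (QuotientGroup.mk' V)) * Nat.card V = Nat.card H := by
      rw [← Cfsg.Agent.Core.card_comap_mk, Subgroup.comap_map_eq, QuotientGroup.ker_mk', sup_eq_left.mpr hVH]
    have h2 : 1 < Nat.card V := Subgroup.one_lt_card_iff_ne_bot V |>.mpr hV.2.1
    have h3 := Nat.card_pos (α := H.map (QuotientGroup.mk' V))
    nlinarith

end Cfsg.Agent.OddLocal.CN
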