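import Cfsg.Agent.OddLocal.CNQuotient
import Cfsg.Agent.OddLocal.CNFrobenius
import Cfsg.Agent.Core.MinimalNormal

/-! Solvable CN-groups. -/

set_option autoImplicit false

namespace Cfsg.Agent.OddLocal.CN

open Cfsg

variable {G : Type*} [Group G]

theorem isMinNormal_pcore_unique [Finite G] [Group.IsSolvable G] (hCN : IsCNGroup G)
    (hnosyl : ∀ (p : ℕ) (_ : Fact p.Prime) (P : Sylow p G), (P : Subgroup G).Normal → (P : Subgroup G) = ⊥)
    {p q : ℕ} [hp : Fact p.Prime] [hq : Fact q.Prime] (hpq : p ≠ q) (h₁ : pCore p G ≠ ⊥) :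
    pCore q G = ⊥ := by
  by_contra h₂
  obtain ⟨P⟩ : Nonempty (Sylow p G) := inferInstance
  haveI : Group.IsNilpotent (P : Subgroup G) := P.isPGroup'.isNilpotent
  have hOP : pCore p G ≤ (P : Subgroup G) := Cfsg.Agent.Core.pCore_le_sylow P
  have hne : (pCore p G).subgroupOf (P : Subgroup G) ≠ ⊥ := fun h => h₁ (by
    have := congrArg (Subgroup.map (P : Subgroup G).subtype) h
    rwa [Subgroup.subgroupOf_map_subtype, inf_of_le_left hOP, Subgroup.map_bot] at this)
  obtain ⟨⟨v, hvP⟩, hvO, hv1, hvc⟩ := exists_ne_one_mem_center_of_normal _ hne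
  rw [Subgroup.mem_subgroupOf] at hvO
  have hv1' : v ≠ 1 := fun h => hv1 (Subtype.ext h)
  have hcopcard : ∀ (A B : Subgroup G), IsPGroup p A → IsPGroup q B → ∀ a ∈ A, ∀ b ∈ B,
      (orderOf a).Coprime (orderOf b) := by
    intro A B hA hB a ha b hb
    obtain ⟨i, hi⟩ := IsPGroup.iff_card.mp hA
    obtain ⟨j, hj⟩ := IsPGroup.iff_card.mp hB
    exact Nat.Coprime.of_dvd (hi ▸ Subgroup.orderOf_dvd_natCard A ha) (hj ▸ Subgroup.orderOf_dvd_natCard B hb)
      (((Nat.coprime_primes hp.out hq.out).mpr hpq).pow i j)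
  have hpc := Cfsg.Agent.Core.isPGroup_pCore p G
  have hqc := Cfsg.Agent.Core.isPGroup_pCore q G
  have hdisj : ∀ a ∈ pCore p G, ∀ b ∈ pCore q G, a * b = b * a := by
    intro a ha b hb
    have h : a * b * a⁻¹ * b⁻¹ ∈ pCore p G ⊓ pCore q G := by
      refine ⟨?_, ?_⟩
      · rw [show a * b * a⁻¹ * b⁻¹ = a * (b * a⁻¹ * b⁻¹) by group]
        exact (pCore p G).mul_mem ha ((inferInstance : (pCore p G).Normal).conj_mem _ ((pCore p G).inv_mem ha) b)
      · exact (pCore q G).mul_mem ((inferInstance : (pCore q G).Normal).conj_mem b hb a) ((pCore q G).inv_mem hb)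
    exact mul_inv_eq_iff_eq_mul.mp (mul_inv_eq_one.mp (orderOf_eq_one_iff.mp
      (Nat.eq_one_of_dvd_coprimes (hcopcard _ _ hpc hqc _ h.1 _ h.2) dvd_rfl dvd_rfl)))
  set C := Subgroup.centralizer ((pCore q G : Subgroup G) : Set G)
  haveI : C.Normal := Subgroup.normal_centralizer
  have hPC : (P : Subgroup G) ≤ C := by
    intro g hg
    refine Subgroup.mem_centralizer_iff.mpr fun b hb => (commute_of_coprime (hCN v hv1') ?_ ?_ ?_).symm
    · exact Subgroup.mem_centralizer_singleton_iff.mpr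
        (congrArg Subtype.val (Subgroup.mem_center_iff.mp hvc ⟨g, hg⟩))
    · exact Subgroup.mem_centralizer_singleton_iff.mpr (hdisj v hvO b hb).symm
    · exact hcopcard _ _ P.isPGroup' hqc g hg b hb
  obtain ⟨w, hw, hw1⟩ := (Subgroup.bot_or_exists_ne_one _).resolve_left h₂
  have hCnil : Group.IsNilpotent C := Cfsg.Agent.Core.isNilpotent_of_le
    (Subgroup.centralizer_le (Set.singleton_subset_iff.mpr hw) : C ≤ Subgroup.centralizer ({w} : Set G))
    (hCN w hw1)
  have heq : (P : Subgroup G) = (pCore p C).map C.subtype := by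
    haveI := hCnil
    rw [Cfsg.Agent.Core.pCore_eq_sylow (P.subtype hPC), Sylow.coe_subtype, Subgroup.subgroupOf_map_subtype,
      inf_of_le_left hPC]
  have hPn : (P : Subgroup G).Normal := by
    rw [heq]; exact Cfsg.Agent.Core.normal_map_subtype_of_characteristic _
  exact h₁ (le_bot_iff.mp ((hnosyl p hp P hPn) ▸ hOP))

/-- In a solvable CN-group without normal Sylow subgroup there is a three-step structure. -/
theorem threeStep_of_no_normal_sylow [Finite G] [Group.IsSolvable G] [Nontrivial G] (hCN : IsCNGroup G)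
    (hnosyl : ∀ (p : ℕ) (_ : Fact p.Prime) (P : Sylow p G), (P : Subgroup G).Normal → (P : Subgroup G) = ⊥) :
    ∃ p : ℕ, p.Prime ∧ IsThreeStepGroup p G := by
  classical
  obtain ⟨V, hV⟩ := Cfsg.Agent.Core.exists_isMinNormal (G := G)
  obtain ⟨-, p, hp, -, hVp⟩ := hV.elementaryAbelian_of_isSolvable
  haveI := Fact.mk hp
  have hHne : pCore p G ≠ ⊥ := fun h => hV.2.1 (le_bot_iff.mp (h ▸ Cfsg.Agent.Core.le_pCore hV.1 hVp))
  have hFH : fittingSubgroup G = pCore p G := by
    refine le_antisymm ?_ (Cfsg.Agent.Core.pCore_le_fittingSubgroup p G)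
    refine Cfsg.Agent.Core.le_of_forall_exists_sylow_le fun q hq => ?_
    haveI := Fact.mk hq
    obtain ⟨T⟩ : Nonempty (Sylow q (fittingSubgroup G)) := inferInstance
    refine ⟨T, ?_⟩
    haveI := Cfsg.Agent.Core.isNilpotent_fittingSubgroup G
    rw [← Cfsg.Agent.Core.pCore_eq_sylow T, Cfsg.Agent.Core.map_pCore_subtype]
    refine le_trans inf_le_left ?_
    by_cases hqp : q = p
    · subst hqp; exact le_rfl
    · rw [isMinNormal_pcore_unique hCN hnosyl (Ne.symm hqp) hHne]; exact bot_le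
  set H := pCore p G with hHdef
  have hHp : IsPGroup p H := Cfsg.Agent.Core.isPGroup_pCore p G
  have hCH : Subgroup.centralizer (H : Set G) ≤ H := by
    rw [← hFH]; exact Cfsg.Agent.Core.centralizer_fittingSubgroup_le
  obtain ⟨P, hHP⟩ := hHp.exists_le_sylow
  have hPnn : (P : Subgroup G) ≠ H := by
    intro h
    have := hnosyl p ⟨hp⟩ P (h ▸ inferInstance)
    exact hHne (h ▸ this)
  -- an element of order prime to `p` centralizing a nontrivial element of `H` lies in `H`
  have hfix : ∀ e : G, (orderOf e).Coprime p → ∀ h ∈ H, e * h = h * e → h = 1 ∨ e = 1 := by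
    intro e he h hh hc
    by_contra hcon
    push Not at hcon
    obtain ⟨hh1, he1⟩ := hcon
    have hpH : p ∣ Nat.card H := by
      obtain ⟨k, hk⟩ := IsPGroup.iff_card.mp hHp
      rw [hk]; refine dvd_pow_self p ?_
      rintro rfl; exact hHne (Subgroup.card_eq_one.mp (by simpa using hk))
    obtain ⟨z, hzH, hz1, hzc, -⟩ := exists_central_of_dvd hHp.isNilpotent hpH
    have hcp : ∀ y ∈ H, (orderOf e).Coprime (orderOf y) := fun y hy => by
      obtain ⟨k, hk⟩ := hHp ⟨y, hy⟩
      exact (he.pow_right k).coprime_dvd_right (orderOf_dvd_of_pow_eq_one (congrArg Subtype.val hk))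
    have hez : e * z = z * e := commute_of_coprime (hCN h hh1) (Subgroup.mem_centralizer_singleton_iff.mpr hc)
      (Subgroup.mem_centralizer_singleton_iff.mpr (hzc h hh).symm) (hcp z hzH)
    have heH : e ∈ H := hCH (Subgroup.mem_centralizer_iff.mpr fun y hy => (commute_of_coprime (hCN z hz1)
      (Subgroup.mem_centralizer_singleton_iff.mpr hez) (Subgroup.mem_centralizer_singleton_iff.mpr (hzc y hy))
      (hcp y hy)).symm)
    exact he1 (orderOf_eq_one_iff.mp (Nat.eq_one_of_dvd_coprimes (hcp e heH) dvd_rfl dvd_rfl))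
  haveI hQs : Group.IsSolvable H := inferInstance
  have hQCN : IsCNGroup (G ⧸ H) := quotient_of_solvable _ hCN H inferInstance le_rfl
  set f := QuotientGroup.mk' H with hf
  set Fb := fittingSubgroup (G ⧸ H)
  have hFbnil := Cfsg.Agent.Core.isNilpotent_fittingSubgroup (G ⧸ H)
  set K := Fb.comap f with hK
  have hHK : H ≤ K := fun x hx => by
    rw [hK, Subgroup.mem_comap, show f x = 1 from (QuotientGroup.eq_one_iff x).mpr hx]
    exact Subgroup.one_mem _
  have hFbcop : (Nat.card Fb).Coprime p := by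
    rw [Nat.coprime_comm, hp.coprime_iff_not_dvd]
    intro hd
    obtain ⟨T⟩ : Nonempty (Sylow p Fb) := inferInstance
    haveI := hFbnil
    have h1 := Cfsg.Agent.Core.map_pCore_subtype p Fb
    have hq : pCore p (G ⧸ H) = ⊥ := Cfsg.Agent.Core.pCore_quotient_pCore p G
    rw [Cfsg.Agent.Core.pCore_eq_sylow T, hq, bot_inf_eq, Subgroup.map_eq_bot_iff_of_injective _ Fb.subtype_injective] at h1
    exact T.ne_bot_of_dvd_card hd h1
  have hKcard : Nat.card K = Nat.card Fb * Nat.card H := Cfsg.Agent.Core.card_comap_mk H Fb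
  obtain ⟨m, hm⟩ := IsPGroup.iff_card.mp hHp
  haveI : (H.subgroupOf K).Normal := Subgroup.Normal.subgroupOf inferInstance K
  have hidxK : (H.subgroupOf K).index = Nat.card Fb := by
    have h1 := Cfsg.Agent.Core.card_mul_relIndex hHK
    have h2 : Nat.card H * H.relIndex K = Nat.card H * Nat.card Fb := by rw [h1, hKcard, mul_comm]
    exact Nat.eq_of_mul_eq_mul_left Nat.card_pos h2
  have hcopK : (Nat.card (H.subgroupOf K)).Coprime (H.subgroupOf K).index := by
    rw [Cfsg.Agent.Core.card_subgroupOf hHK, hidxK, hm]; exact hFbcop.symm.pow_left m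
  obtain ⟨A₀, hA₀⟩ := Subgroup.exists_right_complement'_of_coprime hcopK
  set A := A₀.map K.subtype with hA
  have hAK : A ≤ K := Subgroup.map_subtype_le _
  have hAcard : Nat.card A = Nat.card Fb := by
    rw [hA, Cfsg.Agent.Core.card_map_subtype, ← hA₀.symm.index_eq_card, hidxK]
  have hAp : (Nat.card A).Coprime p := hAcard ▸ hFbcop
  have hHA : H ⊔ A = K := by
    refine le_antisymm (sup_le hHK hAK) fun k hk => ?_
    obtain ⟨⟨⟨u, hu⟩, ⟨w, hw⟩⟩, huw⟩ := hA₀.surjective ⟨k, hk⟩
    have h1 : (u : G) * w = k := congrArg Subtype.val huw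
    rw [← h1]
    exact Subgroup.mul_mem_sup (Subgroup.mem_subgroupOf.mp hu) ⟨w, hw, rfl⟩
  have hAco : ∀ a ∈ A, (orderOf a).Coprime p := fun a ha => hAp.coprime_dvd_left (Subgroup.orderOf_dvd_natCard A ha)
  have hinj : ∀ a ∈ A, a ∈ H → a = 1 := fun a ha haH => by
    obtain ⟨k, hk⟩ := hHp ⟨a, haH⟩
    exact orderOf_eq_one_iff.mp (Nat.eq_one_of_dvd_coprimes ((hAco a ha).pow_right k) dvd_rfl
      (orderOf_dvd_of_pow_eq_one (congrArg Subtype.val hk)))
  have hAmap : A.map f = Fb := by
    refine Subgroup.eq_of_le_of_card_ge ?_ ?_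
    · rintro _ ⟨a, ha, rfl⟩; exact hAK ha
    · rw [← hAcard]
      refine Nat.card_le_card_of_injective (fun a : A => (⟨f a, Subgroup.mem_map_of_mem f a.2⟩ : A.map f))
        fun a b hab => Subtype.ext ?_
      have h1 : f a = f b := congrArg Subtype.val hab
      exact (inv_mul_eq_one.mp (hinj _ (A.mul_mem (A.inv_mem a.2) b.2) (QuotientGroup.eq.mp h1)))
  have hfpfA : FPF H A := fun a ha ha1 h hh hc => (hfix a (hAco a ha) h hh hc).resolve_right ha1
  have hAne : A ≠ ⊥ := by
    intro h
    haveI : Nontrivial (G ⧸ H) := by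
      refine QuotientGroup.nontrivial_iff.mpr fun htop => hPnn ?_
      exact le_antisymm (htop ▸ le_top) hHP
    apply Cfsg.Agent.Core.fittingSubgroup_ne_bot (G := G ⧸ H)
    rw [show fittingSubgroup (G ⧸ H) = Fb from rfl, ← hAmap, h, Subgroup.map_bot]
  have hCFb : Subgroup.centralizer (Fb : Set (G ⧸ H)) ≤ Fb := Cfsg.Agent.Core.centralizer_fittingSubgroup_le
  -- `p`-elements outside `H` do not centralize elements of `A` modulo `H`
  have hpfix : ∀ x : G, (∃ k, x ^ p ^ k = 1) → x ∉ H → ∀ a ∈ A, a ≠ 1 → f x * f a ≠ f a * f x := by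
    rintro x ⟨k, hk⟩ hxH a ha ha1 hc
    have hnH : Subgroup.zpowers a ≤ Subgroup.normalizer (H : Set G) := by
      rw [Subgroup.normalizer_eq_top]; exact le_top
    have hle : (Subgroup.zpowers a).map (MulAut.conj x).toMonoidHom ≤ H ⊔ Subgroup.zpowers a := by
      rw [MonoidHom.map_zpowers, Subgroup.zpowers_le]
      have h1 : x * a * x⁻¹ * a⁻¹ ∈ H := by
        rw [← QuotientGroup.eq_one_iff]
        show f (x * a * x⁻¹ * a⁻¹) = 1
        rw [map_mul, map_mul, map_mul, map_inv, map_inv, hc]; group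
      simpa [mul_assoc] using Subgroup.mul_mem_sup h1 (Subgroup.mem_zpowers a)
    have hcop : (Nat.card (Subgroup.zpowers a)).Coprime (Nat.card H) := by
      rw [Nat.card_zpowers, hm]; exact (hAco a ha).pow_right m
    obtain ⟨w, hw, hwe⟩ := Cfsg.Agent.Coprime.exists_conj_complement H _ (Subgroup.zpowers a)
      ((Subgroup.zpowers a).map (MulAut.conj x).toMonoidHom) rfl inferInstance hnH hle
      (Cfsg.Agent.Coprime.card_map_conj _ x) hcop
    set c := w⁻¹ * x with hcdef
    have hfc : f c = f x := by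
      rw [hcdef, map_mul, map_inv, show f w = 1 from (QuotientGroup.eq_one_iff w).mpr hw, inv_one, one_mul]
    have hca : c * a = a * c := by
      have h1 : x * a * x⁻¹ ∈ (Subgroup.zpowers a).map (MulAut.conj x).toMonoidHom :=
        ⟨a, Subgroup.mem_zpowers a, rfl⟩
      rw [hwe, Cfsg.Agent.Coprime.map_conj_mem] at h1
      have h2 : c * a * c⁻¹ * a⁻¹ ∈ Subgroup.zpowers a := by
        refine Subgroup.mul_mem _ ?_ (Subgroup.inv_mem _ (Subgroup.mem_zpowers a))
        simpa [hcdef, mul_assoc] using h1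
      have h3 : c * a * c⁻¹ * a⁻¹ ∈ H := by
        rw [← QuotientGroup.eq_one_iff]
        show f (c * a * c⁻¹ * a⁻¹) = 1
        rw [map_mul, map_mul, map_mul, map_inv, map_inv, hfc, hc]; group
      exact mul_inv_eq_iff_eq_mul.mp (mul_inv_eq_one.mp
        (hinj _ ((Subgroup.zpowers_le.mpr ha) h2) h3))
    have hck : c ^ p ^ k = 1 := by
      have hH : c ^ p ^ k ∈ H := by
        rw [← QuotientGroup.eq_one_iff]
        show f (c ^ p ^ k) = 1
        rw [map_pow, hfc, ← map_pow, hk, map_one]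
      exact ((hfix a (hAco a ha) _ hH ((show Commute a c from hca.symm).pow_right _).eq)).resolve_right ha1
    have hc1 : c ≠ 1 := fun h => hxH ((QuotientGroup.eq_one_iff x).mp (by
      show f x = 1
      rw [← hfc, h, map_one]))
    obtain ⟨P₁, hP₁⟩ := (show IsPGroup p (Subgroup.zpowers c) from fun z => by
      obtain ⟨z, hz⟩ := z
      obtain ⟨i, rfl⟩ := Subgroup.mem_zpowers_iff.mp hz
      exact ⟨k, Subtype.ext (by
        show (c ^ i) ^ p ^ k = 1
        rw [← zpow_natCast, ← zpow_mul, mul_comm, zpow_mul, zpow_natCast, hck, one_zpow])⟩).exists_le_sylow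
    haveI : Group.IsNilpotent (P₁ : Subgroup G) := P₁.isPGroup'.isNilpotent
    have hHP₁ : H ≤ (P₁ : Subgroup G) := Cfsg.Agent.Core.pCore_le_sylow P₁
    have hne : H.subgroupOf (P₁ : Subgroup G) ≠ ⊥ := fun h => hHne (by
      have := congrArg (Subgroup.map (P₁ : Subgroup G).subtype) h
      rwa [Subgroup.subgroupOf_map_subtype, inf_of_le_left hHP₁, Subgroup.map_bot] at this)
    obtain ⟨⟨z, hzP⟩, hzH, hz1, hzc⟩ := exists_ne_one_mem_center_of_normal _ hne
    rw [Subgroup.mem_subgroupOf] at hzH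
    have hzc' : z * c = c * z :=
      (congrArg Subtype.val (Subgroup.mem_center_iff.mp hzc ⟨c, hP₁ (Subgroup.mem_zpowers c)⟩)).symm
    obtain ⟨j, hj⟩ := hHp ⟨z, hzH⟩
    have haz : a * z = z * a := commute_of_coprime (hCN c hc1)
      (Subgroup.mem_centralizer_singleton_iff.mpr hca.symm) (Subgroup.mem_centralizer_singleton_iff.mpr hzc')
      (((hAco a ha).pow_right j).coprime_dvd_right (orderOf_dvd_of_pow_eq_one (congrArg Subtype.val hj)))
    rcases hfix a (hAco a ha) z hzH haz with h | h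
    · exact hz1 (Subtype.ext h)
    · exact ha1 h
  obtain ⟨x₀, hx₀P, hx₀H⟩ := SetLike.exists_of_lt (lt_of_le_of_ne hHP (Ne.symm hPnn))
  have hx₀pow : ∃ k, x₀ ^ p ^ k = 1 := by
    obtain ⟨k, hk⟩ := P.isPGroup' ⟨x₀, hx₀P⟩
    exact ⟨k, congrArg Subtype.val hk⟩
  have hAnil : Group.IsNilpotent A := by
    refine Cfsg.Agent.Core.isNilpotent_congr ?_ hFbnil
    exact ((MulEquiv.ofBijective (f.subgroupMap A) ⟨fun a b hab => by
      refine Subtype.ext ?_
      have h1 : f a = f b := congrArg Subtype.val hab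
      exact (inv_mul_eq_one.mp (hinj _ (A.mul_mem (A.inv_mem a.2) b.2) (QuotientGroup.eq.mp h1))),
      f.subgroupMap_surjective A⟩).trans (MulEquiv.subgroupCongr hAmap)).symm
  set V₀ := (Subgroup.center H).map H.subtype with hV₀
  haveI : V₀.Normal := Cfsg.Agent.Core.normal_map_subtype_of_characteristic _
  haveI : IsMulCommutative V₀ := center_map_comm _
  have hV₀ne : V₀ ≠ ⊥ := center_map_ne_bot hHp.isNilpotent hHne
  have hV₀H : V₀ ≤ H := Subgroup.map_subtype_le _
  have hAodd : Odd (Nat.card A) := by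
    rw [Nat.odd_iff]
    by_contra h2
    haveI := Fact.mk Nat.prime_two
    obtain ⟨i, hi⟩ := exists_prime_orderOf_dvd_card' (G := A) 2 (by omega)
    have hi' : orderOf (i : G) = 2 := by rw [Subgroup.orderOf_coe, hi]
    have hi1 : (i : G) ≠ 1 := fun h => by rw [h, orderOf_one] at hi'; omega
    apply hpfix x₀ hx₀pow hx₀H i i.2 hi1
    have hmem : f x₀ * f i * (f x₀)⁻¹ ∈ A.map f := by
      rw [hAmap]
      exact (inferInstance : Fb.Normal).conj_mem _ (hAmap ▸ Subgroup.mem_map_of_mem f i.2) _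
    obtain ⟨j, hj, hje⟩ := hmem
    have hj2 : orderOf j = 2 := by
      have hfj : f (j ^ 2) = 1 := by
        rw [map_pow, hje, conj_pow, ← map_pow, ← hi', pow_orderOf_eq_one, map_one, mul_one, mul_inv_cancel]
      refine orderOf_eq_prime (hinj _ (A.pow_mem hj 2) ((QuotientGroup.eq_one_iff _).mp hfj)) fun h => hi1 ?_
      refine hinj _ i.2 ((QuotientGroup.eq_one_iff _).mp ?_)
      have h5 : f x₀ * f i * (f x₀)⁻¹ = 1 := by rw [← hje, h, map_one]
      exact (conj_eq_one_iff).mp h5
    have := involution_unique hV₀ne (hfpfA.mono hV₀H le_rfl) hj i.2 hj2 hi'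
    subst this
    exact mul_inv_eq_iff_eq_mul.mp hje.symm
  have hnA : A ≤ Subgroup.normalizer (H : Set G) := by rw [Subgroup.normalizer_eq_top]; exact le_top
  have hAcyc : IsCyclic A := hfpfA.isCyclic_of_nilpotent_odd hHne hnA hAnil hAodd
  have hAcomm : ∀ a ∈ A, ∀ b ∈ A, a * b = b * a := fun a ha b hb =>
    congrArg Subtype.val ((IsCyclic.commGroup (α := A)).mul_comm ⟨a, ha⟩ ⟨b, hb⟩)
  have hKn : K.Normal := (inferInstance : Fb.Normal).comap f
  -- elements centralizing part of `A` modulo `H`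
  have hcentA : ∀ g : G, f g ∈ Subgroup.centralizer (Fb : Set (G ⧸ H)) → g ∈ K := fun g hg => hCFb hg
  have hqelt : ∀ (q k : ℕ), q.Prime → ∀ g : G, g ^ q ^ k = 1 → q ≠ p → g ∈ K := by
    intro q k hq
    haveI := Fact.mk hq
    intro g hgk hqp
    by_contra hgK
    obtain ⟨Q, hQ⟩ := (show IsPGroup q (Subgroup.zpowers g) from fun z => by
      obtain ⟨z, hz⟩ := z
      obtain ⟨i, rfl⟩ := Subgroup.mem_zpowers_iff.mp hz
      exact ⟨k, Subtype.ext (by
        show (g ^ i) ^ q ^ k = 1
        rw [← zpow_natCast, ← zpow_mul, mul_comm, zpow_mul, zpow_natCast, hgk, one_zpow])⟩).exists_le_sylow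
    have hQfpf : FPF H (Q : Subgroup G) := fun e he he1 h hh hc => by
      refine (hfix e ?_ h hh hc).resolve_right he1
      obtain ⟨j, hj⟩ := Q.isPGroup' ⟨e, he⟩
      exact Nat.Coprime.coprime_dvd_left (orderOf_dvd_of_pow_eq_one (congrArg Subtype.val hj))
        (((Nat.coprime_primes hq hp).mpr hqp).pow_left j)
    by_cases hqA : q ∣ Nat.card A
    · -- a cyclic Sylow subgroup centralizes `A`
      have hq2 : q ≠ 2 := by
        rintro rfl
        rw [Nat.odd_iff] at hAodd; omega
      have hQc : IsCyclic (Q : Subgroup G) :=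
        hQfpf.sylow_cyclic_of_odd hHne (by rw [Subgroup.normalizer_eq_top]; exact le_top) hq2 _ le_rfl Q.isPGroup'
      have hQK : ∀ y ∈ (Q : Subgroup G), ∀ w ∈ (Q : Subgroup G), y * w = w * y := fun y hy w hw =>
        congrArg Subtype.val ((IsCyclic.commGroup (α := (Q : Subgroup G))).mul_comm ⟨y, hy⟩ ⟨w, hw⟩)
      -- a nontrivial element of `Q` in `K`
      obtain ⟨R⟩ : Nonempty (Sylow q K) := inferInstance
      obtain ⟨Q', hQ'⟩ := (R.isPGroup'.map K.subtype).exists_le_sylow
      obtain ⟨t, ht⟩ := MulAction.exists_smul_eq G Q' Q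
      have hRne : (R : Subgroup K) ≠ ⊥ := R.ne_bot_of_dvd_card (by
        rw [hKcard, ← hAcard]; exact hqA.mul_right _)
      obtain ⟨b, hb, hb1⟩ := (Subgroup.bot_or_exists_ne_one _).resolve_left hRne
      set y := t * (b : G) * t⁻¹
      have hyQ : y ∈ (Q : Subgroup G) := by
        rw [← ht]
        exact Subgroup.smul_mem_pointwise_smul _ (MulAut.conj t) _ (hQ' ⟨b, hb, rfl⟩)
      have hyK : y ∈ K := hKn.conj_mem _ b.2 t
      have hy1 : y ≠ 1 := fun h => hb1 (Subtype.ext (conj_eq_one_iff.mp h))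
      obtain ⟨a, ha, hae⟩ : f y ∈ A.map f := by rw [hAmap]; exact hyK
      have hfy1 : f y ≠ 1 := fun h => by
        have hyH : y ∈ H := (QuotientGroup.eq_one_iff y).mp h
        exact hy1 ((hQfpf y hyQ hy1 y hyH rfl))
      apply hgK
      apply hcentA
      rw [← hAmap]
      refine Subgroup.mem_centralizer_iff.mpr ?_
      rintro _ ⟨a', ha', rfl⟩
      by_contra hne
      have hgQ : g ∈ (Q : Subgroup G) := hQ (Subgroup.mem_zpowers g)
      have hmg : f g ∈ Subgroup.centralizer ({f y} : Set (G ⧸ H)) := Subgroup.mem_centralizer_singleton_iff.mpr (by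
        rw [← map_mul, ← map_mul, hQK g hgQ y hyQ])
      have hma : f a' ∈ Subgroup.centralizer ({f y} : Set (G ⧸ H)) := Subgroup.mem_centralizer_singleton_iff.mpr (by
        rw [← hae, ← map_mul, ← map_mul, hAcomm a' ha' a ha])
      -- split `a'` into a `q`-part and a part prime to `q`
      have hqpart : ∀ z ∈ A, (∃ j, z ^ q ^ j = 1) → f z * f g = f g * f z := by
        rintro z hz ⟨j, hj⟩
        have hzK : z ∈ K := hAK hz
        obtain ⟨Q₂, hQ₂⟩ := (show IsPGroup q (Subgroup.zpowers z) from fun w => by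
          obtain ⟨w, hw⟩ := w
          obtain ⟨i, rfl⟩ := Subgroup.mem_zpowers_iff.mp hw
          exact ⟨j, Subtype.ext (by
            show (z ^ i) ^ q ^ j = 1
            rw [← zpow_natCast, ← zpow_mul, mul_comm, zpow_mul, zpow_natCast, hj, one_zpow])⟩).exists_le_sylow
        -- the `q`-elements of the nilpotent normal subgroup lie in every Sylow subgroup
        have hzQ : f z ∈ (Q : Subgroup G).map f := by
          have hQf : ¬ q ∣ ((Q : Subgroup G).map f).index := fun hd => Q.not_dvd_index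
            (hd.trans (Subgroup.index_map_dvd _ (QuotientGroup.mk'_surjective H)))
          have h2 : pCore q (G ⧸ H) ≤ (Q : Subgroup G).map f :=
            Cfsg.Agent.Core.pCore_le_sylow ((Q.isPGroup'.map f).toSylow hQf)
          apply h2
          haveI := hFbnil
          obtain ⟨T, hT⟩ := (show IsPGroup q (Subgroup.zpowers (⟨f z, hAmap ▸ Subgroup.mem_map_of_mem f hz⟩ : Fb))
            from fun w => by
              obtain ⟨w, hw⟩ := w
              obtain ⟨i, rfl⟩ := Subgroup.mem_zpowers_iff.mp hw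
              exact ⟨j, Subtype.ext (Subtype.ext (by
                show (f z ^ i) ^ q ^ j = 1
                rw [← zpow_natCast, ← zpow_mul, mul_comm, zpow_mul, zpow_natCast, ← map_pow, hj, map_one,
                  one_zpow]))⟩).exists_le_sylow
          have h3 : (⟨f z, hAmap ▸ Subgroup.mem_map_of_mem f hz⟩ : Fb) ∈ pCore q Fb := by
            rw [Cfsg.Agent.Core.pCore_eq_sylow T]; exact hT (Subgroup.mem_zpowers _)
          have h4 : (pCore q Fb).map Fb.subtype ≤ pCore q (G ⧸ H) := by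
            rw [Cfsg.Agent.Core.map_pCore_subtype]; exact inf_le_left
          exact h4 ⟨_, h3, rfl⟩
        obtain ⟨w, hw, hwe⟩ := hzQ
        rw [← hwe, ← map_mul, ← map_mul, hQK w hw g hgQ]
      have hprime : ∀ z ∈ A, (orderOf z).Coprime q → f z * f g = f g * f z := by
        intro z hz hzq
        refine commute_of_coprime (hQCN _ hfy1) (Subgroup.mem_centralizer_singleton_iff.mpr ?_) hmg ?_
        · rw [← hae, ← map_mul, ← map_mul, hAcomm z hz a ha]
        · exact Nat.Coprime.of_dvd (orderOf_map_dvd _ _) ((orderOf_map_dvd _ _).trans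
            (orderOf_dvd_of_pow_eq_one hgk)) (hzq.pow_right k)
      obtain ⟨e, c, hc, hord⟩ := Nat.exists_eq_pow_mul_and_not_dvd (orderOf_pos a').ne' q hq.ne_one
      obtain ⟨s, t, hst⟩ := (show IsCoprime ((q ^ e : ℕ) : ℤ) (c : ℤ) from
        (Nat.Coprime.isCoprime ((hq.coprime_iff_not_dvd.mpr hc).pow_left e)))
      have hsplit : a' = (a' ^ (q ^ e)) ^ s * (a' ^ c) ^ t := by
        rw [← zpow_natCast a' (q ^ e), ← zpow_natCast a' c, ← zpow_mul, ← zpow_mul, ← zpow_add,
          mul_comm ((q ^ e : ℕ) : ℤ), mul_comm (c : ℤ), hst, zpow_one]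
      apply hne
      rw [hsplit, map_mul]
      have e1 := hprime ((a' ^ (q ^ e)) ^ s) (A.zpow_mem (A.pow_mem ha' _) s) (by
        refine Nat.Coprime.coprime_dvd_left (orderOf_dvd_of_pow_eq_one ?_) ((hq.coprime_iff_not_dvd.mpr hc).symm)
        rw [← zpow_natCast, ← zpow_mul, mul_comm, zpow_mul, zpow_natCast, ← pow_mul, ← hord, pow_orderOf_eq_one,
          one_zpow])
      have e2 := hqpart ((a' ^ c) ^ t) (A.zpow_mem (A.pow_mem ha' _) t) ⟨e, by
        rw [← zpow_natCast, ← zpow_mul, mul_comm, zpow_mul, zpow_natCast, ← pow_mul, mul_comm, ← hord,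
          pow_orderOf_eq_one, one_zpow]⟩
      exact ((show Commute _ (f g) from e1).mul_left e2).eq
    · -- the case `q ∤ #A`
      have hex : ∃ i, g ^ q ^ i ∈ K := ⟨k, by rw [hgk]; exact K.one_mem⟩
      have hspec := Nat.find_spec hex
      have hpos : Nat.find hex ≠ 0 := fun h => hgK (by simpa [h] using hspec)
      obtain ⟨i, hi⟩ : ∃ i, Nat.find hex = i + 1 := ⟨Nat.find hex - 1, by omega⟩
      set y := g ^ q ^ i with hy
      have hyK : y ∉ K := Nat.find_min hex (m := i) (by omega)
      have hyqK : y ^ q ∈ K := by rw [hy, ← pow_mul, ← pow_succ, ← hi]; exact hspec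
      have hy1 : y ≠ 1 := fun h => hyK (h ▸ K.one_mem)
      have hyq : y ^ q = 1 := by
        refine orderOf_eq_one_iff.mp (Nat.eq_one_of_dvd_coprimes (a := q ^ k) (b := Nat.card K) ?_ ?_
          (Subgroup.orderOf_dvd_natCard K hyqK))
        · rw [hKcard, ← hAcard, hm]
          exact Nat.Coprime.mul_right ((hq.coprime_iff_not_dvd.mpr hqA).pow_left k)
            (((Nat.coprime_primes hq hp).mpr hqp).pow k m)
        · refine orderOf_dvd_of_pow_eq_one ?_
          rw [hy, ← pow_mul, ← pow_mul, show q ^ i * (q * q ^ k) = q ^ k * (q ^ i * q) by ring, pow_mul,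
            hgk, one_pow]
      obtain ⟨s, hs, hsA⟩ := Nat.exists_prime_and_dvd
        (show Nat.card A ≠ 1 from fun h => hAne (Subgroup.card_eq_one.mp h))
      haveI := Fact.mk hs
      obtain ⟨a₀, ha₀⟩ := exists_prime_orderOf_dvd_card' (G := A) s hsA
      set a : G := (a₀ : G)
      have haord : orderOf a = s := by rw [show a = (a₀ : G) from rfl, Subgroup.orderOf_coe, ha₀]
      have ha1 : a ≠ 1 := fun h => hs.ne_one (by rw [← haord, h, orderOf_one])
      have hfayA : ∃ b ∈ A, f b = f (y * a * y⁻¹) := by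
        have h5 : f (y * a * y⁻¹) ∈ A.map f := by
          rw [hAmap, map_mul, map_mul, map_inv]
          exact (inferInstance : Fb.Normal).conj_mem _ (hAmap ▸ Subgroup.mem_map_of_mem f a₀.2) _
        obtain ⟨b, hb, hbe⟩ := h5
        exact ⟨b, hb, hbe⟩
      obtain ⟨b, hb, hbe⟩ := hfayA
      have hbmem : b ∈ Subgroup.zpowers a := by
        have hbs : b ^ s = 1 := hinj _ (A.pow_mem hb s) ((QuotientGroup.eq_one_iff _).mp (by
          show f (b ^ s) = 1
          rw [map_pow, hbe, ← map_pow, conj_pow, ← haord, pow_orderOf_eq_one]; simp))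
        by_cases hb1 : b = 1
        · rw [hb1]; exact Subgroup.one_mem _
        rw [eq_of_card_eq_of_isCyclic hAcyc (Subgroup.zpowers_le.mpr a₀.2) (Subgroup.zpowers_le.mpr hb)
          (by rw [Nat.card_zpowers, Nat.card_zpowers, haord, orderOf_eq_prime hbs hb1])]
        exact Subgroup.mem_zpowers b
      have hnH : Subgroup.zpowers a ≤ Subgroup.normalizer (H : Set G) := by
        rw [Subgroup.normalizer_eq_top]; exact le_top
      have hle : (Subgroup.zpowers a).map (MulAut.conj y).toMonoidHom ≤ H ⊔ Subgroup.zpowers a := by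
        rw [MonoidHom.map_zpowers, Subgroup.zpowers_le]
        have h1 : y * a * y⁻¹ * b⁻¹ ∈ H := by
          rw [← QuotientGroup.eq_one_iff]
          show f (y * a * y⁻¹ * b⁻¹) = 1
          rw [map_mul, map_inv, hbe, mul_inv_cancel]
        simpa [mul_assoc] using Subgroup.mul_mem_sup h1 hbmem
      obtain ⟨w, hw, hwe⟩ := Cfsg.Agent.Coprime.exists_conj_complement H _ (Subgroup.zpowers a)
        ((Subgroup.zpowers a).map (MulAut.conj y).toMonoidHom) rfl inferInstance hnH hle
        (Cfsg.Agent.Coprime.card_map_conj _ y) (by rw [Nat.card_zpowers, hm]; exact (hAco a a₀.2).pow_right m)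
      set y' := w⁻¹ * y with hy'
      have hfy : f y' = f y := by
        rw [hy', map_mul, map_inv, show f w = 1 from (QuotientGroup.eq_one_iff w).mpr hw, inv_one, one_mul]
      have hnorm : ∀ u ∈ Subgroup.zpowers a, y' * u * y'⁻¹ ∈ Subgroup.zpowers a := by
        intro u hu
        have h1 : y * u * y⁻¹ ∈ (Subgroup.zpowers a).map (MulAut.conj y).toMonoidHom := ⟨u, hu, rfl⟩
        rw [hwe, Cfsg.Agent.Coprime.map_conj_mem] at h1
        simpa [hy', mul_assoc] using h1
      have hnormpow : ∀ (n : ℕ) (u : G), u ∈ Subgroup.zpowers a → y' ^ n * u * (y' ^ n)⁻¹ ∈ Subgroup.zpowers a := by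
        intro n
        induction n with
        | zero => simp
        | succ n ihn =>
          intro u hu
          have := hnorm _ (ihn u hu)
          simpa [pow_succ', mul_assoc] using this
      have hy'H : y' ^ q ∈ H := by
        rw [← QuotientGroup.eq_one_iff]
        show f (y' ^ q) = 1
        rw [map_pow, hfy, ← map_pow, hyq, map_one]
      have hy'q : y' ^ q = 1 := by
        have h1 : y' ^ q * a * (y' ^ q)⁻¹ * a⁻¹ = 1 := by
          refine hinj _ ((Subgroup.zpowers_le.mpr a₀.2) (Subgroup.mul_mem _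
            (hnormpow q a (Subgroup.mem_zpowers a)) (Subgroup.inv_mem _ (Subgroup.mem_zpowers a)))) ?_
          rw [← QuotientGroup.eq_one_iff]
          show f (y' ^ q * a * (y' ^ q)⁻¹ * a⁻¹) = 1
          rw [map_mul, map_mul, map_mul, map_inv, map_inv, show f (y' ^ q) = 1 from (QuotientGroup.eq_one_iff _).mpr hy'H]
          group
        exact (hfix a (hAco a a₀.2) _ hy'H (mul_inv_eq_iff_eq_mul.mp (mul_inv_eq_one.mp h1)).symm).resolve_right ha1
      have hy'1 : y' ≠ 1 := fun h => hyK (by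
        show f y ∈ Fb
        rw [← hfy, h, map_one]; exact Subgroup.one_mem _)
      have hy'o : orderOf y' = q := orderOf_eq_prime hy'q hy'1
      have hsq : s ≠ q := fun h => hqA (h ▸ hsA)
      have hcomm : a * y' = y' * a := by
        by_contra hne
        have hprop := orderOf_mul_of_normalizes (V := V₀) hs hq hsq haord hy'o hnorm hne
        refine hV₀ne (eq_bot_of_fpf (M := Subgroup.zpowers a) (inferInstance : IsMulCommutative V₀) hnorm hq
          (fun u hu => (hprop u hu).1) (fun h => ha1 (Subgroup.zpowers_eq_bot.mp h)) ?_ ?_ ?_)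
        · rw [Nat.card_zpowers]
          refine Nat.Coprime.coprime_dvd_right (Subgroup.card_dvd_of_le hV₀H) ?_
          rw [hm]; exact (hAco a a₀.2).pow_right m
        · exact fun v hv u hu hu1 hc =>
            (hfix u (hAco u (Subgroup.zpowers_le.mpr a₀.2 hu)) v (hV₀H hv) hc).resolve_right hu1
        · intro v hv u hu hc
          refine (hfix (u * y') ?_ v (hV₀H hv) hc).resolve_right (hprop u hu).2
          rw [(hprop u hu).1]; exact (Nat.coprime_primes hq hp).mpr hqp
      apply hyK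
      apply hcentA
      rw [← hfy, ← hAmap]
      refine Subgroup.mem_centralizer_iff.mpr ?_
      rintro _ ⟨a', ha', rfl⟩
      have hfa1 : f a ≠ 1 := fun h => ha1 (hinj a a₀.2 ((QuotientGroup.eq_one_iff a).mp h))
      refine commute_of_coprime (hQCN _ hfa1) ?_ ?_ ?_
      · exact Subgroup.mem_centralizer_singleton_iff.mpr (by rw [← map_mul, ← map_mul, hAcomm a' ha' a a₀.2])
      · exact Subgroup.mem_centralizer_singleton_iff.mpr (by rw [← map_mul, ← map_mul, hcomm])
      · exact Nat.Coprime.of_dvd ((orderOf_map_dvd _ _).trans (Subgroup.orderOf_dvd_natCard A ha'))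
          ((orderOf_map_dvd _ _).trans hy'o.dvd) (hq.coprime_iff_not_dvd.mpr hqA).symm
  haveI := hKn
  have hidx : ∀ q : ℕ, q.Prime → q ∣ K.index → q = p := by
    intro q hq hd
    by_contra hqp
    haveI := Fact.mk hq
    obtain ⟨Q⟩ : Nonempty (Sylow q G) := inferInstance
    refine Q.not_dvd_index (hd.trans (Subgroup.index_dvd_of_le ?_))
    intro g hg
    obtain ⟨k, hk⟩ := Q.isPGroup' ⟨g, hg⟩
    exact hqelt q k hq g (congrArg Subtype.val hk) hqp
  refine ⟨p, hp, hHne, A, hAne, hAcyc, hAodd, hAp, by rw [hHA]; exact hKn, ?_, ?_, ?_, ?_⟩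
  · rw [hHA]
    intro htop
    obtain ⟨i, hi⟩ := IsPGroup.iff_card.mp P.isPGroup'
    have h1 : (P : Subgroup G).map f ≤ ⊥ := by
      rintro _ ⟨g, hg, rfl⟩
      rw [Subgroup.mem_bot]
      have hgA : f g ∈ Fb := by
        have : g ∈ K := htop ▸ Subgroup.mem_top g
        exact this
      obtain ⟨j, hj⟩ := P.isPGroup' ⟨g, hg⟩
      exact orderOf_eq_one_iff.mp (Nat.eq_one_of_dvd_coprimes (hFbcop.symm.pow_left j)
        ((orderOf_map_dvd _ _).trans (orderOf_dvd_of_pow_eq_one (congrArg Subtype.val hj)))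
        (Subgroup.orderOf_dvd_natCard Fb hgA))
    rw [le_bot_iff, Subgroup.map_eq_bot_iff, hf, QuotientGroup.ker_mk'] at h1
    exact hPnn (le_antisymm h1 hHP)
  · rw [hHA]
    exact ⟨_, Nat.eq_prime_pow_of_unique_prime_dvd Subgroup.index_ne_zero_of_finite fun {q} hq hd => hidx q hq hd⟩
  · exact fun a ha ha1 => hfpfA.inf_centralizer ha ha1
  · intro x hx a ha ha1 hmem
    rw [hHA] at hx
    have hc : f x * f a = f a * f x := by
      have h1 : f (x * a * x⁻¹ * a⁻¹) = 1 := (QuotientGroup.eq_one_iff _).mpr hmem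
      rw [map_mul, map_mul, map_mul, map_inv, map_inv] at h1
      exact mul_inv_eq_iff_eq_mul.mp (mul_inv_eq_one.mp h1)
    obtain ⟨e, c, hcd, hord⟩ := Nat.exists_eq_pow_mul_and_not_dvd (orderOf_pos x).ne' p hp.ne_one
    obtain ⟨s, t, hst⟩ := (show IsCoprime ((p ^ e : ℕ) : ℤ) (c : ℤ) from
      (Nat.Coprime.isCoprime ((hp.coprime_iff_not_dvd.mpr hcd).pow_left e)))
    have hsplit : x = (x ^ (p ^ e)) ^ s * (x ^ c) ^ t := by
      rw [← zpow_natCast x (p ^ e), ← zpow_natCast x c, ← zpow_mul, ← zpow_mul, ← zpow_add,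
        mul_comm ((p ^ e : ℕ) : ℤ), mul_comm (c : ℤ), hst, zpow_one]
    apply hx
    rw [hsplit]
    refine K.mul_mem (K.zpow_mem ?_ s) (K.zpow_mem ?_ t)
    · refine Cfsg.Agent.Core.le_of_coprime_index (N := K) (H := Subgroup.zpowers (x ^ p ^ e)) ?_ (Subgroup.mem_zpowers _)
      rw [Nat.card_zpowers]
      refine Nat.Coprime.coprime_dvd_left (orderOf_dvd_of_pow_eq_one (by rw [← pow_mul, ← hord, pow_orderOf_eq_one]) : _ ∣ c) ?_
      rw [Nat.coprime_comm]
      refine Nat.coprime_of_dvd fun q hq hqi hqc => ?_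
      exact hcd (hidx q hq hqi ▸ hqc)
    · by_contra hnK
      refine hpfix (x ^ c) ⟨e, by rw [← pow_mul, mul_comm, ← hord, pow_orderOf_eq_one]⟩
        (fun h => hnK (hHK h)) a ha ha1 ?_
      rw [map_pow]
      exact ((show Commute (f x) (f a) from hc).pow_left c).eq

/-- Every non-nilpotent solvable CN-group has a normal Sylow subgroup or is a three-step group. -/
theorem frobenius_or_threeStep [Finite G] [Group.IsSolvable G] (hCN : IsCNGroup G)
    (hnn : ¬ Group.IsNilpotent G) :
    fittingHall G ≠ ⊥ ∨ ∃ p : ℕ, p.Prime ∧ IsThreeStepGroup p G := by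
  by_cases hne : fittingHall G = ⊥
  swap
  · exact Or.inl hne
  haveI : Nontrivial G := by
    by_contra h
    rw [not_nontrivial_iff_subsingleton] at h
    exact hnn inferInstance
  refine Or.inr (threeStep_of_no_normal_sylow hCN fun q hq P hPn => ?_)
  exact le_bot_iff.mp (hne ▸ sylow_le_fittingHall P hPn)

end Cfsg.Agent.OddLocal.CN
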